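import Mathlib

/-!
# The sign of a permutation with two periods
-/

namespace Cfsg.Agent.SylowTwentyOne.PermSign

open Equiv Equiv.Perm

/-- A permutation whose moved points all have period `e` or `2 e`: the sign is determined by the
supports of `σ` and of `σ ^ e`. -/
theorem sign_two_periods {α : Type*} [Fintype α] [DecidableEq α] (σ : Perm α) {e : ℕ} (he : 0 < e)
    (h2 : σ ^ (2 * e) = 1) (hsmall : ∀ z, σ z ≠ z → ∀ k, 0 < k → k < e → (σ ^ k) z ≠ z) :
    ∃ c1 c2 : ℕ, σ.support.card = e * c1 + 2 * e * c2 ∧ (σ ^ e).support.card = 2 * e * c2 ∧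
      Equiv.Perm.sign σ = (-1 : ℤˣ) ^ (σ.support.card + (c1 + c2)) := by
  classical
  set F := σ.cycleFactorsFinset with hF
  have hcyc : ∀ z, σ z ≠ z → ∀ k, (σ ^ k) z = z ↔ (σ.cycleOf z).support.card ∣ k := by
    intro z hz k
    have hc := isCycle_cycleOf σ hz
    rw [← cycleOf_pow_apply_self, ← hc.orderOf, orderOf_dvd_iff_pow_eq_one]
    exact (hc.pow_eq_one_iff' (by rwa [cycleOf_apply_self])).symm
  have hmem : ∀ c ∈ F, ∀ z ∈ c.support, σ z ≠ z ∧ c = σ.cycleOf z := by
    intro c hc z hz
    refine ⟨?_, cycle_is_cycleOf hz hc⟩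
    rw [← (mem_cycleFactorsFinset_iff.1 hc).2 z hz]
    exact mem_support.1 hz
  have hlen : ∀ c ∈ F, c.support.card = e ∨ c.support.card = 2 * e := by
    intro c hc
    obtain ⟨z, hz⟩ := (mem_cycleFactorsFinset_iff.1 hc).1.nonempty_support
    obtain ⟨hz', rfl⟩ := hmem c hc z hz
    obtain ⟨j, hj⟩ : (σ.cycleOf z).support.card ∣ 2 * e := (hcyc z hz' _).1 (by rw [h2, one_apply])
    have hge : e ≤ (σ.cycleOf z).support.card := by
      by_contra hlt
      exact hsmall z hz' _ (Finset.card_pos.2 ⟨z, hz⟩) (by omega) ((hcyc z hz' _).2 dvd_rfl)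
    have : j ≤ 2 := by nlinarith
    interval_cases j
    · omega
    · right; omega
    · left; omega
  set F1 := F.filter fun c => c.support.card = e with hF1
  set F2 := F.filter fun c => ¬ c.support.card = e with hF2
  have hsum : ∑ c ∈ F, c.support.card = e * F1.card + 2 * e * F2.card := by
    rw [← Finset.sum_filter_add_sum_filter_not F fun c => c.support.card = e]
    congr 1
    · rw [Finset.sum_congr rfl fun c hc => (Finset.mem_filter.1 hc).2, Finset.sum_const, smul_eq_mul,
        mul_comm]
    · rw [Finset.sum_congr rfl fun c hc => (hlen c (Finset.mem_filter.1 hc).1).resolve_left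
        (Finset.mem_filter.1 hc).2, Finset.sum_const, smul_eq_mul, mul_comm]
  have hsupp : σ.support.card = ∑ c ∈ F, c.support.card := by
    rw [← sum_cycleType, cycleType_def]
    rfl
  refine ⟨F1.card, F2.card, hsupp.trans hsum, ?_, ?_⟩
  · have hbi : (σ ^ e).support = F2.biUnion support := by
      ext z
      simp only [Finset.mem_biUnion, hF2, Finset.mem_filter, mem_support]
      constructor
      · intro hz
        have hz' : σ z ≠ z := fun h => hz (pow_apply_eq_self_of_apply_eq_self h e)
        exact ⟨σ.cycleOf z, ⟨cycleOf_mem_cycleFactorsFinset_iff.2 (mem_support.2 hz'),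
          fun h => hz ((hcyc z hz' e).2 h.dvd)⟩, by rwa [cycleOf_apply_self]⟩
      · rintro ⟨c, ⟨hc, hne⟩, hz⟩ hfix
        obtain ⟨hz', rfl⟩ := hmem c hc z (mem_support.2 hz)
        have hd := Nat.le_of_dvd he ((hcyc z hz' e).1 hfix)
        rcases hlen _ hc with h | h
        · exact hne h
        · omega
    rw [hbi, Finset.card_biUnion, Finset.sum_congr rfl fun c hc =>
      (hlen c (Finset.mem_filter.1 hc).1).resolve_left (Finset.mem_filter.1 hc).2, Finset.sum_const,
      smul_eq_mul, mul_comm]
    intro a ha b hb hab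
    exact (disjoint_iff_disjoint_support.1 (cycleFactorsFinset_pairwise_disjoint σ
      (Finset.mem_filter.1 (Finset.mem_coe.1 ha)).1 (Finset.mem_filter.1 (Finset.mem_coe.1 hb)).1 hab))
  · rw [sign_of_cycleType, sum_cycleType, cycleType_def, Multiset.card_map]
    congr 2
    exact (Finset.card_filter_add_card_filter_not (s := F) fun c => c.support.card = e).symm

end Cfsg.Agent.SylowTwentyOne.PermSign
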