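import Cfsg.Agent.Lib.SylowTwentyOne.RankTwo
import Cfsg.Agent.Lib.SylowTwentyOne.PermSign
import Cfsg.Agent.Lib.SmallSimple.Centralize
import Cfsg.Agent.Lib.SmallSimple.SixteenFour

/-!
# The Sylow subgroups do not have order 5

The involutions centralising `P` fix only `P`; with `W` the Sylow 2-subgroup of `C(P)`, a 2-element
`g` inducing a generator of `N(P)/C(P)` permutes the cosets of `W` with an odd sign.
-/

set_option linter.style.haveILetI false

namespace Cfsg.Agent.SylowTwentyOne

open Subgroup MulAction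
open Cfsg.Agent.SmallSimple

variable {G : Type*} [Group G] [Finite G] [Fact (Nat.Prime 5)]

/-- A normalised element of order 3 and an involution cannot both centralise `P`. -/
theorem Hyp.no_normalised_three (h : Hyp G) {P : Sylow 5 G} {z u : G}
    (hz : z ∈ centralizer ((P : Subgroup G) : Set G)) (hu : u ∈ centralizer ((P : Subgroup G) : Set G))
    (hz3 : orderOf z = 3) (hu2 : orderOf u = 2) (hn : u * z * u⁻¹ ∈ zpowers z) : False := by
  classical
  haveI := h.simple
  haveI : Fact (Nat.Prime 3) := ⟨by norm_num⟩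
  haveI := Fintype.ofFinite (Sylow 5 G)
  have hcommz : ∀ x ∈ (P : Subgroup G), z * x = x * z := fun x hx => (mem_centralizer_iff.1 hz x hx).symm
  have hcommu : ∀ x ∈ (P : Subgroup G), u * x = x * u := fun x hx => (mem_centralizer_iff.1 hu x hx).symm
  have hzP : z • P = P := Sylow.smul_eq_iff_mem_normalizer.2 (centralizer_le_normalizer _ hz)
  have huP : u • P = P := Sylow.smul_eq_iff_mem_normalizer.2 (centralizer_le_normalizer _ hu)
  have huu : u * u = 1 := by rw [← sq, ← hu2, pow_orderOf_eq_one]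
  have hF5 := card_fixed_mod P hcommz hzP
  have hF3 : 21 ≡ Nat.card {Q : Sylow 5 G // z • Q = Q} [MOD 3] := by
    let f : Function.End (Sylow 5 G) := fun Q => z • Q
    have hfp : ∀ (n : ℕ) (Q : Sylow 5 G), (f ^ n) Q = z ^ n • Q := by
      intro n
      induction n with
      | zero => intro Q; rw [pow_zero, pow_zero, one_smul]; rfl
      | succ n ih => intro Q; rw [pow_succ', pow_succ', mul_smul, ← ih Q]; rfl
    have hσ3 : f ^ 3 ^ 1 = 1 := by
      funext Q
      rw [hfp, pow_one, ← hz3, pow_orderOf_eq_one, one_smul]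
      rfl
    have := Equiv.Perm.card_fixedPoints_modEq hσ3
    rw [← Nat.card_eq_fintype_card, ← Nat.card_eq_fintype_card, h.card] at this
    exact this
  have hF6 : Nat.card {Q : Sylow 5 G // z • Q = Q} = 6 := by
    have hlt : Nat.card {Q : Sylow 5 G // z • Q = Q} < 21 := by
      rw [← h.card]
      refine lt_of_le_of_ne (Nat.card_le_card_of_injective _ Subtype.val_injective) fun e => ?_
      have hall : ∀ R : Sylow 5 G, z • R = R := fun R => by
        obtain ⟨R', hR'⟩ := ((Nat.bijective_iff_injective_and_card (Subtype.val :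
          {Q : Sylow 5 G // z • Q = Q} → Sylow 5 G)).2 ⟨Subtype.val_injective, e⟩).2 R
        exact hR' ▸ R'.2
      rw [h.eq_one hall, orderOf_one] at hz3
      norm_num at hz3
    rw [Nat.ModEq] at hF3
    omega
  obtain ⟨k, hk⟩ := mem_zpowers_iff.1 hn
  have hpres : ∀ Q : Sylow 5 G, z • Q = Q → z • u • Q = u • Q := by
    intro Q hQ
    have h1 : z * u = u * z ^ k := by
      rw [hk, inv_eq_of_mul_eq_one_right huu, ← mul_assoc, ← mul_assoc, huu, one_mul]
    rw [← mul_smul, h1, mul_smul]
    congr 1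
    exact mem_stabilizer_iff.1 (zpow_mem (mem_stabilizer_iff.2 hQ) k)
  have hne : ∀ Q : Sylow 5 G, Q ≠ P → u • Q ≠ P := fun Q hQ e =>
    hQ (smul_left_cancel u (e.trans huP.symm))
  let τ : Equiv.Perm {Q : Sylow 5 G // z • Q = Q ∧ Q ≠ P} :=
    { toFun := fun Q => ⟨u • Q.1, hpres _ Q.2.1, hne _ Q.2.2⟩
      invFun := fun Q => ⟨u • Q.1, hpres _ Q.2.1, hne _ Q.2.2⟩
      left_inv := fun Q => Subtype.ext (by show u • u • Q.1 = Q.1; rw [← mul_smul, huu, one_smul])
      right_inv := fun Q => Subtype.ext (by show u • u • Q.1 = Q.1; rw [← mul_smul, huu, one_smul]) }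
  have hτ : τ ^ 2 ^ 1 = 1 := by
    ext Q
    simp [τ, pow_succ, ← mul_smul, huu]
  have hc5 : Fintype.card {Q : Sylow 5 G // z • Q = Q ∧ Q ≠ P} = 5 := by
    rw [← Fintype.card_congr (Equiv.subtypeSubtypeEquivSubtypeInter (fun Q => z • Q = Q) (fun Q => Q ≠ P)),
      Fintype.card_subtype_compl, ← Nat.card_eq_fintype_card, hF6,
      Fintype.card_congr (Equiv.subtypeEquivRight (q := fun x : {Q : Sylow 5 G // z • Q = Q} => x = ⟨P, hzP⟩)
        (fun x => ⟨fun e => Subtype.ext e, fun e => congrArg Subtype.val e⟩)), Fintype.card_subtype_eq]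
  haveI : Fact (Nat.Prime 2) := ⟨Nat.prime_two⟩
  obtain ⟨Q, hQ⟩ := Equiv.Perm.exists_fixed_point_of_prime (p := 2) (n := 1) (by rw [hc5]; norm_num) hτ
  exact Q.2.2 (h.fixed_involution P hu2 hcommu (congrArg Subtype.val hQ))

/-- Two-elements centralising `P` have order at most `2`. -/
theorem Hyp.sq_eq_one (h : Hyp G) {P : Sylow 5 G} {w : G}
    (hw : w ∈ centralizer ((P : Subgroup G) : Set G)) {k : ℕ} (hwk : orderOf w = 2 ^ k) : w * w = 1 := by
  classical
  haveI := h.simple
  haveI := Fintype.ofFinite (Sylow 5 G)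
  by_contra hne
  have hk2 : 2 ≤ k := by
    by_contra hlt
    refine hne ?_
    rw [← sq, ← orderOf_dvd_iff_pow_eq_one, hwk]
    exact (pow_dvd_pow 2 (show k ≤ 1 by omega)).trans (by norm_num)
  set v := w ^ 2 ^ (k - 2) with hv
  have hv4 : orderOf v = 4 := by
    rw [hv, orderOf_pow_of_dvd (by positivity) (by rw [hwk]; exact pow_dvd_pow 2 (by omega)), hwk,
      Nat.pow_div (by omega) (by norm_num), show k - (k - 2) = 2 by omega]
  have hvC : v ∈ centralizer ((P : Subgroup G) : Set G) := pow_mem hw _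
  have hu : orderOf (v ^ 2) = 2 := by rw [orderOf_pow_of_dvd (by norm_num) (hv4 ▸ by norm_num), hv4]
  have huc : ∀ x ∈ (P : Subgroup G), v ^ 2 * x = x * v ^ 2 := fun x hx =>
    (mem_centralizer_iff.1 (pow_mem hvC 2) x hx).symm
  have hvP : v • P = P := Sylow.smul_eq_iff_mem_normalizer.2 (centralizer_le_normalizer _ hvC)
  set σ := toPermHom G (Sylow 5 G) v with hσ
  have hσk : ∀ j, ∀ Q, (σ ^ j) Q = v ^ j • Q := fun j Q => by rw [hσ, ← map_pow]; rfl
  have h4 : σ ^ (2 * 2) = 1 := by
    ext1 Q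
    rw [hσk, show 2 * 2 = orderOf v by rw [hv4], pow_orderOf_eq_one, one_smul]; rfl
  obtain ⟨c1, c2, e1, e2, esign⟩ := PermSign.sign_two_periods σ (by norm_num) h4
    (fun Q hQ j hj0 hj2 => by
      obtain rfl : j = 1 := by omega
      rwa [pow_one])
  have hs2 : (σ ^ 2).support = Finset.univ.erase P := by
    ext Q
    rw [Equiv.Perm.mem_support, hσk, Finset.mem_erase, and_iff_left (Finset.mem_univ _)]
    exact ⟨fun hQ e => hQ (by rw [e, pow_succ, pow_one, mul_smul, hvP, hvP]),
      fun hQ e => hQ (h.fixed_involution P hu huc e)⟩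
  have hs1 : σ.support ⊆ Finset.univ.erase P := fun Q hQ => Finset.mem_erase.2
    ⟨fun e => Equiv.Perm.mem_support.1 hQ (by rw [e]; exact hvP), Finset.mem_univ _⟩
  have h20 : (Finset.univ.erase P).card = 20 := by
    rw [Finset.card_erase_of_mem (Finset.mem_univ _), Finset.card_univ, ← Nat.card_eq_fintype_card, h.card]
  have hle := Finset.card_le_card hs1
  rw [hs2, h20] at e2
  rw [h20] at hle
  obtain ⟨rfl, rfl⟩ : c2 = 5 ∧ c1 = 0 := by omega
  rw [e1, hσ, Basic.sign_eq_one h.not_comm] at esign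
  exact absurd esign (by decide)

theorem Hyp.card_ne_five (h : Hyp G) (P : Sylow 5 G) : Nat.card (P : Subgroup G) ≠ 5 := by
  intro h5
  classical
  haveI := h.simple
  haveI : Fact (Nat.Prime 2) := ⟨Nat.prime_two⟩
  haveI := Fintype.ofFinite (Sylow 5 G)
  set C := centralizer ((P : Subgroup G) : Set G) with hCdef
  set N := normalizer ((P : Subgroup G) : Set G) with hNdef
  obtain ⟨e, he, he1, hN, -⟩ := Centralize.centralizer_data h.not_comm P h5
  have hGN : Nat.card N * 21 = Nat.card G := h.card ▸ Basic.card_normalizer_mul P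
  have hgen : ∀ {x : G}, x ∈ (P : Subgroup G) → x ≠ 1 → zpowers x = (P : Subgroup G) :=
    fun hx hx1 => Centralize.sylow_le_iff_mem hx hx1 h5
  have honly : ∀ {x : G}, x ∈ (P : Subgroup G) → ∀ {Q : Sylow 5 G}, Q ≠ P → x • Q = Q → x = 1 := by
    intro x hx Q hQ hxQ
    by_contra hx1
    exact hQ (eq_of_le ((hgen hx hx1) ▸ zpowers_le.2 ((smul_eq_iff_mem hx Q).1 hxQ)))
  have hCc : ∀ {w : G}, w ∈ C → ∀ x ∈ (P : Subgroup G), w * x = x * w :=
    fun hw x hx => (mem_centralizer_iff.1 hw x hx).symm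
  have hNP : ∀ {n : G}, n ∈ N → n • P = P := fun hn => Sylow.smul_eq_iff_mem_normalizer.2 hn
  have hCN : C ≤ N := centralizer_le_normalizer _
  have hconjC : ∀ {n w : G}, n ∈ N → w ∈ C → n * w * n⁻¹ ∈ C := by
    intro n w hn hw
    refine mem_centralizer_iff.2 fun z hz => ?_
    have hz' : n⁻¹ * z * n ∈ (P : Subgroup G) := by
      simpa using (mem_normalizer_iff.1 (inv_mem hn) z).1 hz
    calc z * (n * w * n⁻¹) = n * (n⁻¹ * z * n * w) * n⁻¹ := by group
      _ = n * (w * (n⁻¹ * z * n)) * n⁻¹ := by rw [hCc hw _ hz']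
      _ = n * w * n⁻¹ * z := by group
  -- conjugates in `N` of involutions of `C`
  have hconj : ∀ {u v : G}, u ∈ C → orderOf u = 2 → IsConj u v → v ∈ N → v ∈ C := by
    intro u v hu hu2 huv hv
    obtain ⟨g, rfl⟩ := isConj_iff.1 huv
    refine hconjC ?_ hu
    have hfix : u • g⁻¹ • P = g⁻¹ • P := by
      have := hNP hv
      rw [mul_smul, mul_smul, smul_eq_iff_eq_inv_smul] at this
      exact this
    exact Sylow.smul_eq_iff_mem_normalizer.1
      (inv_smul_eq_iff.1 (h.fixed_involution P hu2 (hCc hu) hfix)).symm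
  -- involutions of `C` commute
  have hcommute : ∀ {u v : G}, u ∈ C → v ∈ C → u * u = 1 → v * v = 1 → u * v = v * u := by
    intro u v hu hv huu hvv
    rcases eq_or_ne u 1 with rfl | hu1
    · simp
    have hu2 : orderOf u = 2 := orderOf_eq_prime (by rw [sq]; exact huu) hu1
    set w := v * u with hw
    have hwC : w ∈ C := mul_mem hv hu
    have hui : u⁻¹ = u := inv_eq_of_mul_eq_one_right huu
    have hvi : v⁻¹ = v := inv_eq_of_mul_eq_one_right hvv
    have hinv : u * w * u⁻¹ = w⁻¹ := by
      rw [hw, mul_inv_rev, hui, hvi, mul_assoc u (v * u), mul_assoc v u, huu, mul_one]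
    have hinvj : ∀ j : ℕ, u * w ^ j * u⁻¹ = (w ^ j)⁻¹ := fun j => by rw [← conj_pow, hinv, inv_pow]
    have hwN : orderOf w ∣ Nat.card N := by
      have := _root_.orderOf_dvd_natCard (⟨w, hCN hwC⟩ : N)
      rwa [orderOf_mk] at this
    have hprimes : ∀ q : ℕ, q.Prime → q ∣ orderOf w → q = 2 := by
      intro q hq hqd
      have ho : orderOf (w ^ (orderOf w / q)) = q := orderOf_pow_orderOf_div (orderOf_pos w).ne' hqd
      have hq5 : q ≤ 5 := by
        by_contra hlt
        exact h.prime_not_dvd_normalizer P hq (by omega) (hqd.trans hwN)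
      by_contra hne
      rcases (show q = 3 ∨ q = 5 by
        have := hq.two_le
        rcases eq_or_ne q 4 with rfl | h4
        · exact absurd hq (by norm_num)
        · omega) with rfl | rfl
      · exact h.no_normalised_three (pow_mem hwC _) hu ho hu2 (by
          rw [hinvj]; exact inv_mem (mem_zpowers _))
      · have hzP : w ^ (orderOf w / 5) ∈ (P : Subgroup G) := by
          have hle : zpowers (w ^ (orderOf w / 5)) ≤ normalizer ((P : Subgroup G) : Set G) :=
            zpowers_le.2 (hCN (pow_mem hwC _))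
          have h2 : zpowers (w ^ (orderOf w / 5)) ⊔ (P : Subgroup G) = (P : Subgroup G) :=
            P.3 (IsPGroup.to_sup_of_normal_right' (IsPGroup.of_card (n := 1)
              (by rw [Nat.card_zpowers, ho, pow_one])) P.2 hle) le_sup_right
          exact h2 ▸ mem_sup_left (mem_zpowers _)
        have h1 := hinvj (orderOf w / 5)
        rw [hCc hu _ hzP, mul_inv_cancel_right] at h1
        have h2 : orderOf (w ^ (orderOf w / 5)) ∣ 2 :=
          orderOf_dvd_of_pow_eq_one (by rw [sq]; exact mul_eq_one_iff_eq_inv.2 h1)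
        rw [ho] at h2
        norm_num at h2
    have hk : ∃ k, orderOf w = 2 ^ k :=
      ⟨_, Nat.eq_prime_pow_of_unique_prime_dvd (orderOf_pos w).ne' fun {q} hq hqd => hprimes q hq hqd⟩
    obtain ⟨k, hk⟩ := hk
    have hww := h.sq_eq_one hwC hk
    have hwi : w⁻¹ = w := inv_eq_of_mul_eq_one_right hww
    calc u * v = u⁻¹ * v⁻¹ := by rw [hui, hvi]
      _ = w⁻¹ := by rw [hw, mul_inv_rev]
      _ = v * u := hwi
  -- the Sylow 2-subgroup of `C`
  obtain ⟨W0⟩ : Nonempty (Sylow 2 C) := inferInstance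
  set W := (W0 : Subgroup C).map C.subtype with hWdef
  have hWC : W ≤ C := map_subtype_le _
  have hW2 : IsPGroup 2 W := W0.2.map _
  have hsq : ∀ w ∈ W, w * w = 1 := by
    intro w hw
    obtain ⟨k, hk⟩ := IsPGroup.iff_orderOf.1 hW2 ⟨w, hw⟩
    rw [orderOf_mk] at hk
    exact h.sq_eq_one (hWC hw) hk
  have hWcard : Nat.card W = Nat.card (W0 : Subgroup C) :=
    (Nat.card_congr (equivMapOfInjective _ _ (Subgroup.subtype_injective _)).toEquiv).symm
  have hWinv : ∀ v ∈ C, v * v = 1 → v ∈ W := by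
    intro v hv hvv
    have hv2 : IsPGroup 2 (zpowers v) := by
      refine fun g => ⟨1, Subtype.ext ?_⟩
      obtain ⟨j, hj⟩ := mem_zpowers_iff.1 g.2
      show (g : G) ^ 2 = 1
      rw [← hj, sq, ← (Commute.refl v).mul_zpow, hvv, one_zpow]
    have hle : zpowers v ≤ normalizer (W : Set G) := zpowers_le.2 <| centralizer_le_normalizer _ <|
      mem_centralizer_iff.2 fun w hw => (hcommute hv (hWC hw) hvv (hsq w hw)).symm
    have hsup := IsPGroup.to_sup_of_normal_right' hv2 hW2 hle
    have hCle : zpowers v ⊔ W ≤ C := sup_le (zpowers_le.2 hv) hWC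
    have := W0.3 (Q := (zpowers v ⊔ W).subgroupOf C) (hsup.comap_of_injective _ Subtype.val_injective)
      (fun x hx => mem_subgroupOf.2 (mem_sup_right (mem_map.2 ⟨x, hx, rfl⟩)))
    refine mem_map.2 ⟨⟨v, hv⟩, this ▸ mem_subgroupOf.2 (mem_sup_left (mem_zpowers v)), rfl⟩
  have hWnorm : ∀ n ∈ N, ∀ w ∈ W, n * w * n⁻¹ ∈ W := by
    intro n hn w hw
    refine hWinv _ (hconjC hn (hWC hw)) ?_
    calc n * w * n⁻¹ * (n * w * n⁻¹) = n * (w * w) * n⁻¹ := by group
      _ = 1 := by rw [hsq w hw]; group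
  -- a Sylow 2-subgroup of `N`
  obtain ⟨S0⟩ : Nonempty (Sylow 2 N) := inferInstance
  have hWS : ∀ w ∈ W, ∀ hwN : w ∈ N, (⟨w, hwN⟩ : N) ∈ (S0 : Subgroup N) := by
    intro w hw hwN
    haveI : (comap N.subtype W).Normal := ⟨fun a ha g => hWnorm g g.2 a ha⟩
    have h2 : W.subgroupOf N ⊔ (S0 : Subgroup N) = (S0 : Subgroup N) :=
      S0.3 ((hW2.comap_of_injective _ Subtype.val_injective).to_sup_of_normal_left S0.2) le_sup_right
    exact h2 ▸ mem_sup_left (show (⟨w, hwN⟩ : N) ∈ W.subgroupOf N from hw)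
  have hSC : ∀ s : N, s ∈ (S0 : Subgroup N) → (s : G) ∈ C → (s : G) ∈ W := by
    intro s hs hsC
    obtain ⟨k, hk⟩ := IsPGroup.iff_orderOf.1 S0.2 ⟨s, hs⟩
    rw [orderOf_mk, ← orderOf_coe] at hk
    exact hWinv _ hsC (h.sq_eq_one hsC hk)
  set o := (W0 : Subgroup C).index with ho
  have hodd : o % 2 = 1 := by
    have := W0.not_dvd_index
    rw [← ho] at this
    omega
  have hCc2 : Nat.card C = Nat.card W * o := by rw [hWcard, ho, card_mul_index]
  have he24 : e = 2 ∨ e = 4 := by
    have key : ∀ d ∈ Nat.divisors 4, 1 < d → d = 2 ∨ d = 4 := by decide +kernel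
    exact key e (Nat.mem_divisors.2 ⟨he, by norm_num⟩) he1
  obtain ⟨i, hi⟩ := IsPGroup.iff_card.1 hW2
  have hScard : Nat.card (S0 : Subgroup N) = Nat.card W * e := by
    rcases he24 with rfl | rfl
    · rw [hi, ← pow_succ]
      exact Basic.card_sylow_eq_pow (a := i + 1) (m := o) (by rw [hN, hCc2, hi]; ring) (by omega) S0
    · rw [hi, show (4 : ℕ) = 2 ^ 2 by norm_num, ← pow_add]
      exact Basic.card_sylow_eq_pow (a := i + 2) (m := o) (by rw [hN, hCc2, hi]; ring) (by omega) S0
  set W' := (W.subgroupOf N).subgroupOf (S0 : Subgroup N) with hW'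
  have hW'i : W'.index = e := by
    have hc : Nat.card W' = Nat.card W := by
      refine (Nat.card_congr
        { toFun := fun w : W' => (⟨((w : (S0 : Subgroup N)) : N), w.2⟩ : W)
          invFun := fun w => ⟨⟨⟨w, hCN (hWC w.2)⟩, hWS w w.2 _⟩, w.2⟩
          left_inv := fun _ => rfl
          right_inv := fun _ => rfl })
    have := card_mul_index W'
    rw [hc, hScard] at this
    exact Nat.eq_of_mul_eq_mul_left Nat.card_pos this
  haveI hW'n : W'.Normal := ⟨fun a ha g => hWnorm _ (g : N).2 _ ha⟩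
  -- a two-element inducing a generator of `N/C`
  obtain ⟨g, hgN, hgS, hgk⟩ : ∃ g, ∃ hgN : g ∈ N, (⟨g, hgN⟩ : N) ∈ (S0 : Subgroup N) ∧
      ∀ k, 0 < k → k < e → g ^ k ∉ C := by
    obtain ⟨s, hs⟩ : ∃ s : (S0 : Subgroup N), s ∉ W' := by
      by_contra hc
      push Not at hc
      have htop : W' = ⊤ := eq_top_iff.2 fun x _ => hc x
      rw [htop, index_top] at hW'i
      omega
    rcases he24 with rfl | rfl
    · refine ⟨((s : N) : G), (s : N).2, s.2, fun k hk0 hk2 hkC => ?_⟩
      obtain rfl : k = 1 := by omega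
      rw [pow_one] at hkC
      exact hs (hSC _ s.2 hkC)
    by_cases hex : ∃ t : (S0 : Subgroup N), ((t : N) : G) ^ 2 ∉ C
    · obtain ⟨t, ht⟩ := hex
      refine ⟨((t : N) : G), (t : N).2, t.2, fun k hk0 hk4 hkC => ?_⟩
      have h4 : ((t : N) : G) ^ 4 ∈ C := by
        have := pow_index_mem W' t
        rw [hW'i] at this
        exact hWC this
      interval_cases k
      · rw [pow_one] at hkC; exact ht (pow_mem hkC 2)
      · exact ht hkC
      · refine ht ?_
        have h1 : ((t : N) : G) ∈ C := by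
          have := mul_mem (inv_mem hkC) h4
          rwa [pow_succ _ 3, inv_mul_cancel_left] at this
        exact pow_mem h1 2
    exfalso
    push Not at hex
    obtain ⟨y, hy, hy1⟩ : ∃ y, y ∈ (P : Subgroup G) ∧ y ≠ 1 := by
      haveI : Nontrivial (P : Subgroup G) := Finite.one_lt_card_iff_nontrivial.1 (by rw [h5]; norm_num)
      obtain ⟨q, hq⟩ := exists_ne (1 : (P : Subgroup G))
      exact ⟨q, q.2, fun e => hq (Subtype.ext e)⟩
    have hyo : orderOf y = 5 := orderOf_eq_prime ((h.elementary P).2 y hy) hy1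
    have hinv : ∀ t : (S0 : Subgroup N), t ∉ W' → ((t : N) : G) * y * ((t : N) : G)⁻¹ = y⁻¹ := by
      intro t ht
      have hmem : ((t : N) : G) * y * ((t : N) : G)⁻¹ ∈ zpowers y :=
        (hgen hy hy1).symm ▸ (mem_normalizer_iff.1 (t : N).2 y).1 hy
      rw [← mem_powers_iff_mem_zpowers, Submonoid.mem_powers_iff] at hmem
      obtain ⟨k, hk⟩ := hmem
      have h2 : y ^ (k * k) = y := by
        rw [pow_mul, hk, conj_pow, hk]
        have := hCc (hex t) y hy
        rw [sq] at this
        calc ((t : N) : G) * (((t : N) : G) * y * ((t : N) : G)⁻¹) * ((t : N) : G)⁻¹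
            = ((t : N) : G) * ((t : N) : G) * y * (((t : N) : G) * ((t : N) : G))⁻¹ := by group
          _ = y := by rw [this, mul_inv_cancel_right]
      have hk' : k * k % 5 = 1 := by
        have h3 : y ^ (k * k) = y ^ 1 := by rw [h2, pow_one]
        rw [pow_eq_pow_iff_modEq, hyo] at h3
        exact h3
      have key : ∀ j ∈ Finset.range 5, j * j % 5 = 1 → j = 1 ∨ j = 4 := by decide +kernel
      rw [← hk, ← pow_mod_orderOf, hyo]
      rcases key (k % 5) (Finset.mem_range.2 (Nat.mod_lt _ (by norm_num))) (by rwa [← Nat.mul_mod]) with e | e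
      · exfalso
        refine ht (hSC _ t.2 ?_)
        simp only [Subgroup.coe_subtype]
        rw [hCdef, ← hgen hy hy1, zpowers_eq_closure, centralizer_closure, mem_centralizer_singleton_iff,
          ← mul_inv_eq_iff_eq_mul, ← hk, ← pow_mod_orderOf, hyo, e, pow_one]
      · rw [e]
        refine eq_inv_of_mul_eq_one_right ?_
        rw [← pow_succ', (h.elementary P).2 y hy]
    have hprod : ∀ t : (S0 : Subgroup N), t ∉ W' → s * t ∈ W' := by
      intro t ht
      refine hSC _ (s * t : (S0 : Subgroup N)).2 ?_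
      show ((s : N) : G) * ((t : N) : G) ∈ C
      rw [hCdef, ← hgen hy hy1, zpowers_eq_closure, centralizer_closure, mem_centralizer_singleton_iff,
        ← mul_inv_eq_iff_eq_mul]
      calc ((s : N) : G) * ((t : N) : G) * y * (((s : N) : G) * ((t : N) : G))⁻¹
          = ((s : N) : G) * (((t : N) : G) * y * ((t : N) : G)⁻¹) * ((s : N) : G)⁻¹ := by group
        _ = y := by
          rw [hinv t ht, show ((s : N) : G) * y⁻¹ * ((s : N) : G)⁻¹ =
            (((s : N) : G) * y * ((s : N) : G)⁻¹)⁻¹ by group, hinv s hs, inv_inv]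
    let f : ↥(S0 : Subgroup N) → W' ⊕ W' := fun t =>
      if ht : t ∈ W' then Sum.inl ⟨t, ht⟩ else Sum.inr ⟨s * t, hprod t ht⟩
    have hf : Function.Injective f := by
      intro a b hab
      by_cases ha : a ∈ W' <;> by_cases hb : b ∈ W' <;>
        simp [f, ha, hb] at hab
      · exact hab
      · exact hab
    have := Nat.card_le_card_of_injective f hf
    have hm := card_mul_index W'
    rw [hW'i] at hm
    rw [Nat.card_sum, ← hm] at this
    have : 0 < Nat.card W' := Nat.card_pos
    omega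
  -- the sign of `g` on the cosets of `W`
  have hgeW : g ^ e ∈ W := by
    have := pow_index_mem W' ⟨⟨g, hgN⟩, hgS⟩
    rw [hW'i] at this
    exact this
  haveI := Fintype.ofFinite (G ⧸ W)
  set σ := toPermHom G (G ⧸ W) g with hσ
  have hσk : ∀ j, ∀ a, (σ ^ j) a = g ^ j • a := fun j a => by rw [hσ, ← map_pow]; rfl
  have h2e : σ ^ (2 * e) = 1 := by
    ext1 a
    rw [hσk, mul_comm, pow_mul, sq, hsq _ hgeW, one_smul]; rfl
  have hfree : ∀ j, 0 < j → j < e → ∀ a : G ⧸ W, g ^ j • a ≠ a := by
    intro j hj0 hje a ha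
    induction a using QuotientGroup.induction_on with
    | H a =>
    have hmem : a⁻¹ * g ^ j * a ∈ W := by
      have h1 : ((g ^ j * a : G) : G ⧸ W) = (a : G ⧸ W) := ha
      rw [eq_comm, QuotientGroup.eq, ← mul_assoc] at h1
      exact h1
    refine hgk j hj0 hje ?_
    rcases eq_or_ne (a⁻¹ * g ^ j * a) 1 with h1 | h1
    · have : g ^ j = 1 := by
        calc g ^ j = a * (a⁻¹ * g ^ j * a) * a⁻¹ := by group
          _ = 1 := by rw [h1]; group
      rw [this]; exact one_mem _
    · exact hconj (hWC hmem) (orderOf_eq_prime (by rw [sq]; exact hsq _ hmem) h1)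
        (isConj_iff.2 ⟨a, by group⟩) (pow_mem hgN j)
  obtain ⟨c1, c2, e1, e2, esign⟩ := PermSign.sign_two_periods σ (by omega) h2e
    (fun a _ j hj0 hje => by rw [hσk]; exact hfree j hj0 hje a)
  have hall : σ.support = Finset.univ := by
    refine Finset.eq_univ_of_forall fun a => Equiv.Perm.mem_support.2 ?_
    have := hfree 1 one_pos (by omega) a
    rwa [pow_one] at this
  have hWidx : W.index = 21 * o * e := by
    refine Nat.eq_of_mul_eq_mul_left (Nat.card_pos (α := W)) ?_
    rw [card_mul_index, ← hGN, hN, hCc2]; ring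
  rw [hall, Finset.card_univ, ← Nat.card_eq_fintype_card, ← index, hWidx] at e1 esign
  have hsupp2 : (σ ^ e).support.card = 21 * o * e - Nat.card {a : G ⧸ W // g ^ e • a = a} := by
    have hc : (Finset.univ.filter fun a : G ⧸ W => g ^ e • a = a).card = Nat.card {a : G ⧸ W // g ^ e • a = a} := by
      rw [Nat.card_eq_fintype_card, Fintype.card_subtype]
    have hs : (σ ^ e).support = Finset.univ.filter fun a : G ⧸ W => ¬ g ^ e • a = a := by
      ext a
      simp [hσk]
    have := Finset.card_filter_add_card_filter_not (s := (Finset.univ : Finset (G ⧸ W))) fun a => g ^ e • a = a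
    rw [hc, ← hs, Finset.card_univ, ← Nat.card_eq_fintype_card, ← index, hWidx] at this
    omega
  have hpar : (21 * o * e + (c1 + c2)) % 2 = 0 := by
    rw [hσ, Basic.sign_eq_one h.not_comm] at esign
    exact Nat.even_iff.1 ((neg_one_pow_eq_one_iff_even (by decide : (-1 : ℤˣ) ≠ 1)).1 esign.symm)
  by_cases hge : g ^ e = 1
  · have hfix : Nat.card {a : G ⧸ W // g ^ e • a = a} = 21 * o * e := by
      rw [Nat.card_congr (Equiv.subtypeUnivEquiv (fun a => by rw [hge, one_smul])), ← index, hWidx]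
    rw [hsupp2, hfix, Nat.sub_self] at e2
    have hc20 : c2 = 0 := by
      rcases Nat.mul_eq_zero.1 e2.symm with h' | h'
      · omega
      · exact h'
    subst hc20
    have hc1 : c1 = 21 * o := Nat.eq_of_mul_eq_mul_left (show 0 < e by omega) (by linarith)
    rcases he24 with rfl | rfl <;> omega
  · set u := g ^ e with hu
    have huC : u ∈ C := hWC hgeW
    have hu2 : orderOf u = 2 := orderOf_eq_prime (by rw [sq]; exact hsq _ hgeW) hge
    have hfix : Nat.card {a : G ⧸ W // u • a = a} = o * e := by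
      have h1 := SixteenFour.fixed_mul W u
      have h2 := Basic.card_centralizer_mul_card_class (G := G) u
      have h3 := FixedPoints.card_fixed_mul P u
      have hone : Nat.card {Q : Sylow 5 G // u • Q = Q} = 1 := by
        haveI : Unique {Q : Sylow 5 G // u • Q = Q} :=
          { default := ⟨P, hNP (hCN huC)⟩
            uniq := fun Q => Subtype.ext (h.fixed_involution P hu2 (hCc huC) Q.2) }
        exact Nat.card_unique
      have hj : Nat.card {y : G // IsConj u y ∧ y ∈ W} = Nat.card {y : G // IsConj u y ∧ y ∈ N} := by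
        refine Nat.card_congr (Equiv.subtypeEquivRight fun v =>
          ⟨fun hv => ⟨hv.1, hCN (hWC hv.2)⟩, fun hv => ⟨hv.1, ?_⟩⟩)
        refine hWinv v (hconj huC hu2 hv.1 hv.2) ?_
        obtain ⟨c, rfl⟩ := isConj_iff.1 hv.1
        calc c * u * c⁻¹ * (c * u * c⁻¹) = c * (u * u) * c⁻¹ := by group
          _ = 1 := by rw [hsq _ hgeW]; group
      rw [hone, mul_one, ← hNdef] at h3
      rw [hWidx, hj] at h1
      rw [← hGN] at h2
      refine Nat.eq_of_mul_eq_mul_right (show 0 < Nat.card N * 21 from Nat.mul_pos Nat.card_pos (by norm_num)) ?_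
      calc Nat.card {a : G ⧸ W // u • a = a} * (Nat.card N * 21)
          = Nat.card (centralizer ({u} : Set G)) *
              (Nat.card {a : G ⧸ W // u • a = a} * Nat.card {g : G // IsConj u g}) := by rw [← h2]; ring
        _ = 21 * o * e * (Nat.card (centralizer ({u} : Set G)) * Nat.card {y : G // IsConj u y ∧ y ∈ N}) := by
            rw [h1]; ring
        _ = o * e * (Nat.card N * 21) := by rw [← h3]; ring
    rw [hsupp2, hfix] at e2
    have hc2 : c2 = 10 * o := by
      have h20 : 21 * o * e - o * e = 2 * e * (10 * o) := by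
        rw [show 21 * o * e = 2 * e * (10 * o) + o * e by ring, Nat.add_sub_cancel]
      exact Nat.eq_of_mul_eq_mul_left (show 0 < 2 * e by omega) (e2.symm.trans h20)
    subst hc2
    have hc1 : c1 = o := Nat.eq_of_mul_eq_mul_left (show 0 < e by omega) (by linarith)
    rcases he24 with rfl | rfl <;> omega

end Cfsg.Agent.SylowTwentyOne
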