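import Cfsg.Agent.Lib.SylowTwentyOne.Reduction
import Cfsg.Agent.Lib.SylowTwentyOne.RankOne

/-!
# No finite group has exactly 21 Sylow 5-subgroups
-/

namespace Cfsg.Agent.SylowTwentyOne

universe u

theorem card_ne_twentyone [Fact (Nat.Prime 5)] (G : Type u) [Group G] [Finite G] :
    Nat.card (Sylow 5 G) ≠ 21 := by
  have aux : ∀ k, ∀ (H : Type u) [Group H] [Finite H], Nat.card H = k →
      Nat.card (Sylow 5 H) ≠ 21 := by
    intro k
    induction k using Nat.strong_induction_on with
    | _ k IH =>
      intro H _ _ hk hn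
      obtain ⟨hs, hc⟩ := Reduction.isSimpleGroup hn fun K _ _ hlt => IH _ (hk ▸ hlt) K rfl
      have h : Hyp H := ⟨hs, hc, hn⟩
      obtain ⟨P⟩ : Nonempty (Sylow 5 H) := inferInstance
      rcases h.card_sylow_cases P with e | e
      · exact h.card_ne_five P e
      · exact h.card_ne_twentyfive P e
  exact aux _ G rfl

end Cfsg.Agent.SylowTwentyOne
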