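import Cfsg.Agent.Lib.SylowTwentyOne.Structure

/-!
# The Sylow subgroups do not have order 25
-/

set_option linter.style.haveILetI false

namespace Cfsg.Agent.SylowTwentyOne

open Subgroup MulAction
open Cfsg.Agent.SmallSimple

variable {G : Type*} [Group G] [Finite G] [Fact (Nat.Prime 5)]

theorem ne_of_mem_orbit {P A R : Sylow 5 G} (hA : A ≠ P) (hR : R ∈ orbit (P : Subgroup G) A) :
    R ≠ P := by
  intro e
  rw [e] at hR
  obtain ⟨q, hq⟩ := mem_orbit_symm.1 hR
  exact hA (hq.symm.trans (Sylow.smul_eq_iff_mem_normalizer.2 (le_normalizer q.2)))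

/-- An element of `P ⊓ Q` lies in exactly `P` and the orbit of `Q`. -/
theorem Hyp.fix_exact (h : Hyp G) {P Q : Sylow 5 G} (hQ : Q ≠ P) {x : G}
    (hx : x ∈ (P : Subgroup G)) (hxQ : x ∈ (Q : Subgroup G)) (hx1 : x ≠ 1) (R : Sylow 5 G) :
    x ∈ (R : Subgroup G) ↔ R = P ∨ R ∈ orbit (P : Subgroup G) Q := by
  refine ⟨fun hR => ?_, ?_⟩
  · let f : Option (orbit (P : Subgroup G) Q) → {S : Sylow 5 G // x ∈ (S : Subgroup G)} := fun z =>
      z.elim ⟨P, hx⟩ fun S => ⟨S.1, h.mem_orbit_of_mem hx hxQ S.2⟩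
    have hf : Function.Injective f := by
      rintro (_ | a) (_ | b) e <;> have e' := congrArg Subtype.val e <;>
        simp only [f, Option.elim_none, Option.elim_some] at e'
      · rfl
      · exact absurd e'.symm (ne_of_mem_orbit hQ b.2)
      · exact absurd e' (ne_of_mem_orbit hQ a.2)
      · rw [Subtype.ext e']
    have hb := hf.bijective_of_nat_card_le (by
      rw [Finite.card_option, h.card_orbit hQ]
      rcases h.card_fix_cases hx hx1 with e | e <;> omega)
    obtain ⟨z, hz⟩ := hb.2 ⟨R, hR⟩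
    have hz' := congrArg Subtype.val hz
    cases z with
    | none => exact Or.inl hz'.symm
    | some S =>
      refine Or.inr ?_
      rw [show R = (S : Sylow 5 G) from hz'.symm]
      exact S.2
  · rintro (rfl | hR)
    · exact hx
    · exact h.mem_orbit_of_mem hx hxQ hR

/-- The fixed points of an element centralising `P` number `1` mod `5`. -/
theorem card_fixed_mod (P : Sylow 5 G) {g : G}
    (hg : ∀ x ∈ (P : Subgroup G), g * x = x * g) (hgP : g • P = P) :
    Nat.card {Q : Sylow 5 G // g • Q = Q} % 5 = 1 := by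
  let S : SubMulAction (P : Subgroup G) (Sylow 5 G) :=
    { carrier := {Q | g • Q = Q}
      smul_mem' := by
        intro x Q (hQ : g • Q = Q)
        show g • ((x : G) • Q) = (x : G) • Q
        rw [← mul_smul, hg (x : G) x.2, mul_smul, hQ] }
  have hmod := P.2.card_modEq_card_fixedPoints S
  have hfix : fixedPoints (P : Subgroup G) S = {(⟨P, hgP⟩ : S)} := by
    refine Set.eq_singleton_iff_unique_mem.2 ⟨fun x => Subtype.ext ?_, fun Q hQ => Subtype.ext ?_⟩
    · exact Sylow.smul_eq_iff_mem_normalizer.2 (le_normalizer x.2)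
    · exact eq_of_le fun x hx => (smul_eq_iff_mem hx _).1 (congrArg Subtype.val (hQ ⟨x, hx⟩))
  rw [hfix, Nat.card_eq_fintype_card (α := ↥({(⟨P, hgP⟩ : S)} : Set S)), Fintype.card_unique] at hmod
  exact hmod

/-- An involution centralising `P` fixes only `P`. -/
theorem Hyp.fixed_involution (h : Hyp G) (P : Sylow 5 G) {u : G} (hu : orderOf u = 2)
    (hc : ∀ x ∈ (P : Subgroup G), u * x = x * u) {Q : Sylow 5 G} (hQ : u • Q = Q) : Q = P := by
  classical
  haveI := h.simple
  have huu : u * u = 1 := by rw [← sq, ← hu, pow_orderOf_eq_one]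
  have huP : u • P = P := Sylow.smul_eq_iff_mem_normalizer.2
    (centralizer_le_normalizer _ (mem_centralizer_iff.2 fun x hx => (hc x hx).symm))
  have hmod := card_fixed_mod P hc huP
  have hfour := FixedPoints.four_dvd_moved h.not_comm (α := Sylow 5 G) huu
  rw [h.card] at hfour
  have hlt : Nat.card {Q : Sylow 5 G // u • Q = Q} < 21 := by
    rw [← h.card]
    refine lt_of_le_of_ne (Nat.card_le_card_of_injective _ Subtype.val_injective) fun e => ?_
    have hall : ∀ R : Sylow 5 G, u • R = R := fun R => by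
      obtain ⟨R', hR'⟩ := ((Nat.bijective_iff_injective_and_card (Subtype.val :
        {Q : Sylow 5 G // u • Q = Q} → Sylow 5 G)).2 ⟨Subtype.val_injective, e⟩).2 R
      exact hR' ▸ R'.2
    rw [h.eq_one hall, orderOf_one] at hu
    norm_num at hu
  have h1 : Nat.card {Q : Sylow 5 G // u • Q = Q} = 1 := by omega
  haveI := (Nat.card_eq_one_iff_unique.1 h1).1
  exact congrArg Subtype.val (Subsingleton.elim (⟨Q, hQ⟩ : {Q : Sylow 5 G // u • Q = Q}) ⟨P, huP⟩)

theorem Hyp.card_ne_twentyfive (h : Hyp G) (P : Sylow 5 G) : Nat.card (P : Subgroup G) ≠ 25 := by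
  intro h25
  classical
  haveI := h.simple
  haveI : Fact (Nat.Prime 2) := ⟨Nat.prime_two⟩
  haveI := Fintype.ofFinite (Sylow 5 G)
  have hcomm := (h.elementary P).1
  have hexp := (h.elementary P).2
  obtain ⟨Q1, hQ1⟩ : ∃ Q : Sylow 5 G, Q ≠ P := by
    haveI : Nontrivial (Sylow 5 G) := Finite.one_lt_card_iff_nontrivial.1 (by rw [h.card]; norm_num)
    exact exists_ne P
  obtain ⟨x, hx, hxQ1, hx1⟩ : ∃ x, x ∈ (P : Subgroup G) ∧ x ∈ (Q1 : Subgroup G) ∧ x ≠ 1 := by
    set K1 := (Q1 : Subgroup G).subgroupOf (P : Subgroup G)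
    have hc : Nat.card K1 = 5 := by
      have := card_mul_index K1
      rw [h.index_inter hQ1, h25] at this
      omega
    haveI : Nontrivial K1 := Finite.one_lt_card_iff_nontrivial.1 (by rw [hc]; norm_num)
    obtain ⟨k, hk⟩ := exists_ne (1 : K1)
    exact ⟨_, (k : (P : Subgroup G)).2, k.2, fun e => hk (Subtype.ext (Subtype.ext e))⟩
  have hxfix := h.fix_exact hQ1 hx hxQ1 hx1
  set N := normalizer ((P : Subgroup G) : Set G) with hN
  set H := centralizer ({x} : Set G) with hH
  have hPH : (P : Subgroup G) ≤ H := fun z hz => mem_centralizer_singleton_iff.2 (hcomm z hz x hx)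
  have hrel : N.relIndex H = 6 := by
    rw [← h.card_fix hx]
    rcases h.card_fix_cases hx hx1 with e | e
    · exfalso
      haveI := (Nat.card_eq_one_iff_unique.1 e).1
      exact hQ1 (congrArg Subtype.val (Subsingleton.elim
        (⟨Q1, hxQ1⟩ : {Q : Sylow 5 G // x ∈ (Q : Subgroup G)}) ⟨P, hx⟩))
    · exact e
  -- an involution in `N(P) ∩ C(x)`
  obtain ⟨u, huN, hux, huo⟩ : ∃ u, u ∈ N ∧ u * x = x * u ∧ orderOf u = 2 := by
    set I := N ⊓ H with hI
    by_cases h2 : 2 ∣ Nat.card I
    · obtain ⟨⟨u, hu⟩, huo⟩ := exists_prime_orderOf_dvd_card' (G := I) 2 h2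
      rw [orderOf_mk] at huo
      exact ⟨u, hu.1, mem_centralizer_singleton_iff.1 hu.2, huo⟩
    exfalso
    have hHc : Nat.card I * 6 = Nat.card H := by
      have := relIndex_mul_relIndex ⊥ I H bot_le inf_le_right
      rwa [relIndex_bot_left, relIndex_bot_left, hI, inf_relIndex_right, hrel] at this
    obtain ⟨T⟩ : Nonempty (Sylow 2 H) := inferInstance
    have hT : Nat.card (T : Subgroup H) = 2 := by
      simpa using Basic.card_sylow_eq_pow (a := 1) (m := 3 * Nat.card I) (by rw [← hHc]; ring)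
        (fun hd => by rcases (Nat.Prime.dvd_mul Nat.prime_two).1 hd with h' | h' <;> omega) T
    haveI : IsCyclic (T : Subgroup H) := isCyclic_of_prime_card hT
    have hmf : (Nat.card H).minFac = 2 := (Nat.minFac_eq_two_iff _).2 ⟨Nat.card I * 3, by rw [← hHc]; ring⟩
    have hNC := IsCyclic.normalizer_le_centralizer (P := T) hmf inferInstance
    set f := MonoidHom.transferSylow T hNC
    have hK : Nat.card f.ker = 3 * Nat.card I := by
      have h2' := (MonoidHom.ker_transferSylow_isComplement' T hNC).index_eq_card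
      have h3' := card_mul_index (T : Subgroup H)
      rw [show MonoidHom.transferSylow T hNC = f from rfl] at h2'
      rw [hT, ← hHc] at h3'
      omega
    set K := f.ker.map H.subtype with hKdef
    have hKc : Nat.card K = 3 * Nat.card I := by
      rw [hKdef, ← Nat.card_congr (equivMapOfInjective _ _ (Subgroup.subtype_injective _)).toEquiv, hK]
    have hIK : I ≤ K := by
      intro z hz
      refine mem_map.2 ⟨⟨z, hz.2⟩, MonoidHom.mem_ker.2 (orderOf_eq_one_iff.1 ?_), rfl⟩
      have h1 : orderOf (f ⟨z, hz.2⟩) ∣ 2 := (_root_.orderOf_dvd_natCard _).trans hT.dvd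
      have h2' : orderOf (f ⟨z, hz.2⟩) ∣ Nat.card I := by
        refine (orderOf_map_dvd f _).trans ?_
        rw [orderOf_mk]
        have := _root_.orderOf_dvd_natCard (⟨z, hz⟩ : I)
        rwa [orderOf_mk] at this
      exact Nat.eq_one_of_dvd_coprimes ((Nat.Prime.coprime_iff_not_dvd Nat.prime_two).2 h2) h1 h2'
    have hKH : K ≤ H := map_subtype_le _
    have hNK : N ⊓ K = I := le_antisymm (inf_le_inf_left _ hKH) (le_inf inf_le_left hIK)
    have hr := FixedPoints.relIndex_normalizer_mod P (show (P : Subgroup G) ≤ K from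
      (le_inf le_normalizer hPH).trans hIK)
    have h1 := relIndex_mul_relIndex ⊥ (N ⊓ K) K bot_le inf_le_right
    rw [relIndex_bot_left, relIndex_bot_left, inf_relIndex_right, hKc, hNK, mul_comm 3] at h1
    rw [Nat.eq_of_mul_eq_mul_left Nat.card_pos h1] at hr
    norm_num at hr
  have huu : u * u = 1 := by rw [← sq, ← huo, pow_orderOf_eq_one]
  have hui : u⁻¹ = u := inv_eq_of_mul_eq_one_right huu
  have huP : u • P = P := Sylow.smul_eq_iff_mem_normalizer.2 huN
  have huinv : ∀ Q : Sylow 5 G, x ∈ ((u • Q : Sylow 5 G) : Subgroup G) ↔ x ∈ (Q : Subgroup G) := by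
    intro Q
    rw [Sylow.coe_subgroup_smul]
    constructor
    · rintro ⟨w, hw, hwx⟩
      have hwx' : u * w * u⁻¹ = x := hwx
      have : w = x := mul_left_cancel ((mul_inv_eq_iff_eq_mul.1 hwx').trans hux.symm)
      exact this ▸ hw
    · intro hxq
      exact ⟨x, hxq, show u * x * u⁻¹ = x by rw [hux, mul_inv_cancel_right]⟩
  have hu2 : ∀ Q : Sylow 5 G, u • u • Q = Q := fun Q => by rw [← mul_smul, huu, one_smul]
  -- a fixed point outside
  obtain ⟨Q2, hQ2x, hQ2u⟩ : ∃ Q : Sylow 5 G, x ∉ (Q : Subgroup G) ∧ u • Q = Q := by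
    let σ : Equiv.Perm {Q : Sylow 5 G // x ∉ (Q : Subgroup G)} :=
      { toFun := fun Q => ⟨u • Q.1, fun h' => Q.2 ((huinv _).1 h')⟩
        invFun := fun Q => ⟨u • Q.1, fun h' => Q.2 ((huinv _).1 h')⟩
        left_inv := fun Q => Subtype.ext (hu2 _)
        right_inv := fun Q => Subtype.ext (hu2 _) }
    have hσ : σ ^ 2 ^ 1 = 1 := by
      ext Q
      simp [σ, pow_succ, hu2]
    have hc15 : Fintype.card {Q : Sylow 5 G // x ∉ (Q : Subgroup G)} = 15 := by
      rw [Fintype.card_subtype_compl, ← Nat.card_eq_fintype_card, ← Nat.card_eq_fintype_card, h.card_fix hx,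
        ← hN, ← hH, hrel, h.card]
    obtain ⟨Q, hQ⟩ := Equiv.Perm.exists_fixed_point_of_prime (p := 2) (n := 1) (by rw [hc15]; norm_num) hσ
    exact ⟨Q.1, Q.2, congrArg Subtype.val hQ⟩
  have hQ2P : Q2 ≠ P := fun e => hQ2x (e ▸ hx)
  obtain ⟨m, hm, hmQ2, hm1⟩ : ∃ m, m ∈ (P : Subgroup G) ∧ m ∈ (Q2 : Subgroup G) ∧ m ≠ 1 := by
    set K2 := (Q2 : Subgroup G).subgroupOf (P : Subgroup G)
    have hc : Nat.card K2 = 5 := by
      have := card_mul_index K2
      rw [h.index_inter hQ2P, h25] at this
      omega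
    haveI : Nontrivial K2 := Finite.one_lt_card_iff_nontrivial.1 (by rw [hc]; norm_num)
    obtain ⟨k, hk⟩ := exists_ne (1 : K2)
    exact ⟨_, (k : (P : Subgroup G)).2, k.2, fun e => hk (Subtype.ext (Subtype.ext e))⟩
  have hmfix := h.fix_exact hQ2P hm hmQ2 hm1
  have hord : ∀ {z : G}, z ∈ (P : Subgroup G) → z ≠ 1 → orderOf z = 5 := fun hz hz1 =>
    orderOf_eq_prime (hexp _ hz) hz1
  have hgen : ∀ {a b : G}, a ∈ (P : Subgroup G) → b ∈ (P : Subgroup G) → a ≠ 1 → b ∉ zpowers a →
      zpowers a ⊔ zpowers b = (P : Subgroup G) := by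
    intro a b ha hb ha1 hba
    refine eq_of_le_of_card_ge (sup_le (zpowers_le.2 ha) (zpowers_le.2 hb)) ?_
    have hd := card_dvd_of_le (sup_le (zpowers_le.2 ha) (zpowers_le.2 hb))
    rw [h25] at hd ⊢
    obtain ⟨i, hi, hi'⟩ := (Nat.dvd_prime_pow (Fact.out : Nat.Prime 5) (m := 2)).1 (by simpa using hd)
    rw [hi']
    have : i = 2 := by
      by_contra hne
      refine hba ?_
      have heq : zpowers a = zpowers a ⊔ zpowers b := eq_of_le_of_card_ge le_sup_left (by
        rw [hi', Nat.card_zpowers, hord ha ha1]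
        calc 5 ^ i ≤ 5 ^ 1 := Nat.pow_le_pow_right (by norm_num) (by omega)
          _ = 5 := by norm_num)
      exact heq ▸ mem_sup_right (mem_zpowers b)
    rw [this]; norm_num
  have hxm : x ∉ zpowers m := fun hxm => hQ2x (zpowers_le.2 hmQ2 hxm)
  have humu : u * m * u⁻¹ = m⁻¹ := by
    have hmem : u * m * u⁻¹ ∈ ((Q2 : Subgroup G).subgroupOf (P : Subgroup G)).map (P : Subgroup G).subtype := by
      refine mem_map.2 ⟨⟨u * m * u⁻¹, (mem_normalizer_iff.1 huN m).1 hm⟩, ?_, rfl⟩
      rw [mem_subgroupOf]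
      exact (mem_normalizer_iff.1 (Sylow.smul_eq_iff_mem_normalizer.1 hQ2u) m).1 hmQ2
    have hK : zpowers m = ((Q2 : Subgroup G).subgroupOf (P : Subgroup G)).map (P : Subgroup G).subtype := by
      refine eq_of_le_of_card_ge (zpowers_le.2 (mem_map.2 ⟨⟨m, hm⟩, hmQ2, rfl⟩)) ?_
      rw [← Nat.card_congr (equivMapOfInjective _ _ (Subgroup.subtype_injective _)).toEquiv,
        Nat.card_zpowers, hord hm hm1]
      have := card_mul_index ((Q2 : Subgroup G).subgroupOf (P : Subgroup G))
      rw [h.index_inter hQ2P, h25] at this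
      omega
    rw [← hK, ← mem_powers_iff_mem_zpowers, Submonoid.mem_powers_iff] at hmem
    obtain ⟨k, hk⟩ := hmem
    have h2 : m ^ (k * k) = m := by
      rw [pow_mul, hk, conj_pow, hk]
      calc u * (u * m * u⁻¹) * u⁻¹ = (u * u) * m * (u * u)⁻¹ := by group
        _ = m := by rw [huu]; simp
    have hk' : k * k % 5 = 1 := by
      have h3 : m ^ (k * k) = m ^ 1 := by rw [h2, pow_one]
      rw [pow_eq_pow_iff_modEq, hord hm hm1] at h3
      exact h3
    have key : ∀ j ∈ Finset.range 5, j * j % 5 = 1 → j = 1 ∨ j = 4 := by decide +kernel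
    rw [← hk, ← pow_mod_orderOf, hord hm hm1]
    rcases key (k % 5) (Finset.mem_range.2 (Nat.mod_lt _ (by norm_num))) (by rwa [← Nat.mul_mod]) with e | e
    · exfalso
      have hum : u * m = m * u := by
        rw [← mul_inv_eq_iff_eq_mul, ← hk, ← pow_mod_orderOf, hord hm hm1, e, pow_one]
      have hc : ∀ z ∈ (P : Subgroup G), u * z = z * u := by
        intro z hz
        rw [← hgen hm hx hm1 hxm] at hz
        have hle : zpowers m ⊔ zpowers x ≤ centralizer ({u} : Set G) := sup_le
          (zpowers_le.2 (mem_centralizer_singleton_iff.2 hum.symm))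
          (zpowers_le.2 (mem_centralizer_singleton_iff.2 hux.symm))
        exact (mem_centralizer_singleton_iff.1 (hle hz)).symm
      exact hQ2P (h.fixed_involution P huo hc hQ2u)
    · rw [e]
      refine eq_inv_of_mul_eq_one_right ?_
      rw [← pow_succ', hexp m hm]
  -- cyclic transitivity on an orbit
  have hcyc : ∀ {z : G}, z ∈ (P : Subgroup G) → z ≠ 1 → ∀ {A : Sylow 5 G}, z ∉ (A : Subgroup G) →
      ∀ R ∈ orbit (P : Subgroup G) A, ∃ k : Fin 5, z ^ (k : ℕ) • A = R := by
    intro z hz hz1 A hA R hR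
    have hAP : A ≠ P := fun e => hA (e ▸ hz)
    let f : Fin 5 → orbit (P : Subgroup G) A := fun k =>
      ⟨z ^ (k : ℕ) • A, ⟨⟨z ^ (k : ℕ), pow_mem hz _⟩, rfl⟩⟩
    have hf : Function.Injective f := by
      intro a b e
      by_contra hne
      have e' : z ^ (a : ℕ) • A = z ^ (b : ℕ) • A := congrArg Subtype.val e
      wlog hab : (a : ℕ) ≤ b generalizing a b
      · exact this e.symm (Ne.symm hne) e'.symm (le_of_not_ge hab)
      have hd : z ^ ((b : ℕ) - a) • A = A := by
        refine smul_left_cancel (z ^ (a : ℕ)) ?_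
        rw [← mul_smul, ← pow_add, Nat.add_sub_cancel' hab, e']
      have hne' : (a : ℕ) ≠ b := fun e => hne (Fin.ext e)
      obtain ⟨j, -, hj⟩ := Nat.exists_mul_mod_eq_one_of_coprime (k := 5) (n := (b : ℕ) - a)
        ((Fact.out : Nat.Prime 5).coprime_iff_not_dvd.2 (fun hd' => by
          have := Nat.eq_zero_of_dvd_of_lt hd' (by omega)
          omega) |>.symm) (by norm_num)
      refine hA ?_
      have hmem := (smul_eq_iff_mem (pow_mem hz _) A).1 hd
      have := pow_mem hmem j
      rwa [← pow_mul, ← pow_mod_orderOf, hord hz hz1, hj, pow_one] at this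
    obtain ⟨k, hk⟩ := (hf.bijective_of_nat_card_le (by rw [h.card_orbit hAP, Nat.card_fin])).2 ⟨R, hR⟩
    exact ⟨k, congrArg Subtype.val hk⟩
  have hO2 : ∀ R ∈ orbit (P : Subgroup G) Q2, u • R = R := by
    intro R hR
    obtain ⟨k, rfl⟩ := hcyc hx hx1 hQ2x R hR
    have hc : Commute u (x ^ (k : ℕ)) := (show Commute u x from hux).pow_right _
    rw [← mul_smul, hc.eq, mul_smul, hQ2u]
  have hQ1m : m ∉ (Q1 : Subgroup G) := by
    intro hmem
    rcases (hmfix Q1).1 hmem with e | e
    · exact hQ1 e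
    · exact hQ2x (h.mem_orbit_of_mem hx hxQ1 (mem_orbit_symm.1 e))
  -- one fixed point in the orbit of `Q1`
  obtain ⟨A, hA, hAu⟩ : ∃ A ∈ orbit (P : Subgroup G) Q1, u • A = A := by
    have hinv : ∀ R ∈ orbit (P : Subgroup G) Q1, u • R ∈ orbit (P : Subgroup G) Q1 := by
      intro R hR
      rcases (hxfix (u • R)).1 ((huinv R).2 ((hxfix R).2 (Or.inr hR))) with e | e
      · exact absurd (smul_left_cancel u (e.trans huP.symm)) (ne_of_mem_orbit hQ1 hR)
      · exact e
    let σ : Equiv.Perm (orbit (P : Subgroup G) Q1) :=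
      { toFun := fun Q => ⟨u • Q.1, hinv _ Q.2⟩
        invFun := fun Q => ⟨u • Q.1, hinv _ Q.2⟩
        left_inv := fun Q => Subtype.ext (hu2 _)
        right_inv := fun Q => Subtype.ext (hu2 _) }
    have hσ : σ ^ 2 ^ 1 = 1 := by
      ext Q
      simp [σ, pow_succ, hu2]
    obtain ⟨Q, hQ⟩ := Equiv.Perm.exists_fixed_point_of_prime (p := 2) (n := 1)
      (by rw [← Nat.card_eq_fintype_card, h.card_orbit hQ1]; norm_num) hσ
    exact ⟨Q.1, Q.2, congrArg Subtype.val hQ⟩
  have hAm : m ∉ (A : Subgroup G) := h.orbit_not_mem hm hQ1m hA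
  -- all the fixed points
  have hfixall : ∀ R : Sylow 5 G, u • R = R ↔ (R = P ∨ R = A ∨ R ∈ orbit (P : Subgroup G) Q2) := by
    intro R
    refine ⟨fun hR => ?_, ?_⟩
    · by_cases hxR : x ∈ (R : Subgroup G)
      · rcases (hxfix R).1 hxR with e | e
        · exact Or.inl e
        refine Or.inr (Or.inl ?_)
        obtain ⟨k, rfl⟩ := hcyc hm hm1 hAm R (by rwa [orbit_eq_iff.2 hA])
        have h1 : u * m ^ (k : ℕ) = (m ^ (k : ℕ))⁻¹ * u := by
          rw [← inv_pow, ← humu, conj_pow]; group
        rw [← mul_smul, h1, mul_smul, hAu, inv_smul_eq_iff, ← mul_smul, ← pow_add] at hR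
        by_contra hne
        refine hAm ?_
        have hmem := (smul_eq_iff_mem (pow_mem hm _) A).1 hR.symm
        have hk : (k : ℕ) ≠ 0 := fun e => hne (by rw [e, pow_zero, one_smul])
        obtain ⟨j, -, hj⟩ := Nat.exists_mul_mod_eq_one_of_coprime (k := 5) (n := (k : ℕ) + k)
          ((Fact.out : Nat.Prime 5).coprime_iff_not_dvd.2 (fun hd' => by omega) |>.symm) (by norm_num)
        have := pow_mem hmem j
        rwa [← pow_mul, ← pow_mod_orderOf, hord hm hm1, hj, pow_one] at this
      · refine Or.inr (Or.inr ?_)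
        have hRP : R ≠ P := fun e => hxR (e ▸ hx)
        obtain ⟨z, hz, hzR, hz1⟩ : ∃ z, z ∈ (P : Subgroup G) ∧ z ∈ (R : Subgroup G) ∧ z ≠ 1 := by
          set K := (R : Subgroup G).subgroupOf (P : Subgroup G)
          have hc : Nat.card K = 5 := by
            have := card_mul_index K
            rw [h.index_inter hRP, h25] at this
            omega
          haveI : Nontrivial K := Finite.one_lt_card_iff_nontrivial.1 (by rw [hc]; norm_num)
          obtain ⟨k, hk⟩ := exists_ne (1 : K)
          exact ⟨_, (k : (P : Subgroup G)).2, k.2, fun e => hk (Subtype.ext (Subtype.ext e))⟩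
        have hz' : u * z * u⁻¹ ∈ (P : Subgroup G) := (mem_normalizer_iff.1 huN z).1 hz
        have hz'R : u * z * u⁻¹ ∈ (R : Subgroup G) :=
          (mem_normalizer_iff.1 (Sylow.smul_eq_iff_mem_normalizer.1 hR) z).1 hzR
        by_cases hw : z * (u * z * u⁻¹) = 1
        · -- inverted
          let I : Subgroup G :=
            { carrier := {w | w ∈ (P : Subgroup G) ∧ u * w * u⁻¹ = w⁻¹}
              one_mem' := ⟨one_mem _, by simp⟩
              mul_mem' := fun {a b} ha hb => ⟨mul_mem ha.1 hb.1, by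
                rw [mul_inv_rev, show u * (a * b) * u⁻¹ = (u * a * u⁻¹) * (u * b * u⁻¹) by group, ha.2, hb.2]
                exact hcomm _ (inv_mem ha.1) _ (inv_mem hb.1)⟩
              inv_mem' := fun {a} ha => ⟨inv_mem ha.1, by
                rw [show u * a⁻¹ * u⁻¹ = (u * a * u⁻¹)⁻¹ by group, ha.2]⟩ }
          have hmI : m ∈ I := ⟨hm, humu⟩
          have hzI : z ∈ I := ⟨hz, eq_inv_of_mul_eq_one_right hw⟩
          have hzm : z ∈ zpowers m := by
            by_contra hzm
            have hxI : x ∈ I := by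
              have hle : zpowers m ⊔ zpowers z ≤ I := sup_le (zpowers_le.2 hmI) (zpowers_le.2 hzI)
              rw [hgen hm hz hm1 hzm] at hle
              exact hle hx
            have h1 := hxI.2
            rw [hux, mul_inv_cancel_right] at h1
            have h2 : orderOf x ∣ 2 :=
              orderOf_dvd_of_pow_eq_one (by rw [sq]; exact mul_eq_one_iff_eq_inv.2 h1)
            rw [hord hx hx1] at h2
            norm_num at h2
          have hzgen : zpowers z = zpowers m := eq_of_le_of_card_ge (zpowers_le.2 hzm) (by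
            rw [Nat.card_zpowers, Nat.card_zpowers, hord hz hz1, hord hm hm1])
          have hmR : m ∈ (R : Subgroup G) := zpowers_le.2 hzR (hzgen ▸ mem_zpowers m)
          exact ((hmfix R).1 hmR).resolve_left hRP
        · exfalso
          set w := z * (u * z * u⁻¹) with hwdef
          have hwP : w ∈ (P : Subgroup G) := mul_mem hz hz'
          have hwu : w ∈ centralizer ({u} : Set G) := by
            refine mem_centralizer_singleton_iff.2 (mul_inv_eq_iff_eq_mul.1 ?_).symm
            calc u * w * u⁻¹ = u * z * u⁻¹ * ((u * u) * z * (u * u)⁻¹) := by rw [hwdef]; group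
              _ = u * z * u⁻¹ * z := by rw [huu]; simp
              _ = w := by rw [hwdef, hcomm z hz _ hz']
          have hwx : w ∈ zpowers x := by
            by_contra hwx
            have hle : zpowers x ⊔ zpowers w ≤ centralizer ({u} : Set G) :=
              sup_le (zpowers_le.2 (mem_centralizer_singleton_iff.2 hux.symm)) (zpowers_le.2 hwu)
            rw [hgen hx hwP hx1 hwx] at hle
            have h1 := mem_centralizer_singleton_iff.1 (hle hm)
            rw [← h1, mul_inv_cancel_right] at humu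
            have h2 : orderOf m ∣ 2 :=
              orderOf_dvd_of_pow_eq_one (by rw [sq]; exact mul_eq_one_iff_eq_inv.2 humu)
            rw [hord hm hm1] at h2
            norm_num at h2
          have hgenw : zpowers w = zpowers x := eq_of_le_of_card_ge (zpowers_le.2 hwx) (by
            rw [Nat.card_zpowers, Nat.card_zpowers, hord hwP hw, hord hx hx1])
          exact hxR (zpowers_le.2 (mul_mem hzR hz'R) (hgenw ▸ mem_zpowers x))
    · rintro (rfl | rfl | hR)
      · exact huP
      · exact hAu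
      · exact hO2 R hR
  have hseven : Nat.card {R : Sylow 5 G // u • R = R} = 7 := by
    have hAP : A ≠ P := ne_of_mem_orbit hQ1 hA
    have hAO : A ∉ orbit (P : Subgroup G) Q2 := fun hAO => hAm (h.mem_orbit_of_mem hm hmQ2 hAO)
    have hPO : P ∉ orbit (P : Subgroup G) Q2 := fun hPO => ne_of_mem_orbit hQ2P hPO rfl
    rw [Nat.card_congr (Equiv.subtypeEquivRight hfixall)]
    show Nat.card ↑(insert P (insert A (orbit (P : Subgroup G) Q2))) = 7
    rw [Nat.card_coe_set_eq, Set.ncard_insert_of_notMem (by simp [Ne.symm hAP, hPO]),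
      Set.ncard_insert_of_notMem hAO, ← Nat.card_coe_set_eq, h.card_orbit hQ2P]
  have hfour := FixedPoints.four_dvd_moved h.not_comm (α := Sylow 5 G) huu
  rw [h.card, hseven] at hfour
  norm_num at hfour

end Cfsg.Agent.SylowTwentyOne
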