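import Mathlib

/-!
# A minimal group with 21 Sylow 5-subgroups is simple
-/

set_option linter.style.haveILetI false

namespace Cfsg.Agent.SylowTwentyOne.Reduction

open Subgroup MulAction
open scoped Pointwise

universe u

variable {G : Type u} [Group G] [Finite G]

omit [Finite G] in
/-- A subgroup containing every Sylow subgroup has the same Sylow number. -/
theorem card_sylow_eq_of_le {p : ℕ} [Fact p.Prime] (H : Subgroup G)
    (hall : ∀ P : Sylow p G, (P : Subgroup G) ≤ H) :
    Nat.card (Sylow p H) = Nat.card (Sylow p G) := by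
  refine (Nat.card_congr (Equiv.ofBijective (fun P : Sylow p G => P.subtype (hall P)) ⟨?_, ?_⟩)).symm
  · exact fun P Q h => Sylow.subtype_injective h
  · intro Q
    obtain ⟨P, hP⟩ := (Q.2.map H.subtype).exists_le_sylow
    refine ⟨P, Sylow.ext (Q.3 (P.subtype (hall P)).2 fun x hx => ?_)⟩
    rw [Sylow.coe_subtype, mem_subgroupOf]
    exact hP ⟨x, hx, rfl⟩

/-- The reduction to a simple group. -/
theorem isSimpleGroup [Fact (Nat.Prime 5)] (hn : Nat.card (Sylow 5 G) = 21)
    (IH : ∀ (H : Type u) [Group H] [Finite H], Nat.card H < Nat.card G → Nat.card (Sylow 5 H) ≠ 21) :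
    IsSimpleGroup G ∧ ¬ IsMulCommutative G := by
  classical
  haveI : Fact (Nat.Prime 7) := ⟨by norm_num⟩
  have hcard : ∀ {K : Type u} [Group K] [Finite K] (P : Sylow 5 K),
      Nat.card (Sylow 5 K) = (normalizer ((P : Subgroup K) : Set K)).index :=
    fun P => P.card_eq_index_normalizer
  have hnn : ∀ P : Sylow 5 G, ¬ (P : Subgroup G).Normal := by
    intro P hP
    haveI := Sylow.unique_of_normal P hP
    rw [Nat.card_unique] at hn
    omega
  have hfull : ∀ H : Subgroup G, (∀ P : Sylow 5 G, (P : Subgroup G) ≤ H) → H = ⊤ := by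
    intro H hall
    by_contra hH
    have hlt : Nat.card H < Nat.card G := by
      refine lt_of_le_of_ne (card_le_card_group H) fun e => hH (card_eq_iff_eq_top H |>.1 e)
    exact IH H hlt (hn ▸ card_sylow_eq_of_le H hall)
  -- every non-trivial normal subgroup supplements each Sylow subgroup
  have hsup : ∀ M : Subgroup G, M.Normal → M ≠ ⊥ → ∀ P : Sylow 5 G, (P : Subgroup G) ⊔ M = ⊤ := by
    intro M hM hM1 P
    have hlt : Nat.card (G ⧸ M) < Nat.card G := by
      have h := card_mul_index M
      have h1 : 1 < Nat.card M := by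
        by_contra hle
        exact hM1 (eq_bot_of_card_le _ (by omega))
      have h2 : 0 < M.index := Nat.pos_of_ne_zero M.index_ne_zero_of_finite
      rw [← index]
      nlinarith
    set f := QuotientGroup.mk' M with hf
    have hfs : Function.Surjective f := QuotientGroup.mk'_surjective M
    set P' := P.mapSurjective hfs with hP'
    have hdvd : Nat.card (Sylow 5 (G ⧸ M)) ∣ 21 := by
      rw [hcard P', ← hn, hcard P,
        ← index_comap_of_surjective _ hfs]
      refine index_dvd_of_le ?_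
      rw [← map_le_iff_le_comap, hP', Sylow.coe_mapSurjective]
      exact le_normalizer_map f
    have hmod := card_sylow_modEq_one 5 (G ⧸ M)
    have h1 : Nat.card (Sylow 5 (G ⧸ M)) = 1 := by
      have key : ∀ d ∈ Nat.divisors 21, d % 5 = 1 → d = 1 ∨ d = 21 := by decide +kernel
      exact (key _ (Nat.mem_divisors.2 ⟨hdvd, by norm_num⟩) hmod).resolve_right (IH _ hlt)
    have hnormal : (P' : Subgroup (G ⧸ M)).Normal := by
      rw [← normalizer_eq_top_iff, ← index_eq_one, ← hcard P', h1]
    have hS : ((P : Subgroup G) ⊔ M).Normal := by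
      have := hnormal.comap f
      rwa [hP', Sylow.coe_mapSurjective, comap_map_eq, QuotientGroup.ker_mk'] at this
    refine hfull _ fun Q => ?_
    obtain ⟨g, rfl⟩ := MulAction.exists_smul_eq G P Q
    intro x hx
    rw [Sylow.coe_subgroup_smul] at hx
    obtain ⟨y, hy, rfl⟩ := hx
    exact hS.conj_mem y (mem_sup_left hy) g
  have hfaith : ∀ g : G, (∀ P : Sylow 5 G, g • P = P) → g = 1 := by
    by_contra hc
    push Not at hc
    obtain ⟨g, hg, hg1⟩ := hc
    set K := (toPermHom G (Sylow 5 G)).ker with hK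
    have hgK : g ∈ K := MonoidHom.mem_ker.2 (Equiv.ext hg)
    have hK1 : K ≠ ⊥ := fun e => hg1 (mem_bot.1 (e ▸ hgK))
    obtain ⟨P⟩ : Nonempty (Sylow 5 G) := inferInstance
    refine hnn P (normalizer_eq_top_iff.1 (top_le_iff.1 ?_))
    rw [← hsup K inferInstance hK1 P]
    refine sup_le le_normalizer fun k hk => Sylow.smul_eq_iff_mem_normalizer.1 ?_
    exact Equiv.congr_fun (MonoidHom.mem_ker.1 hk) P
  haveI : Nontrivial G := by
    by_contra hc
    rw [not_nontrivial_iff_subsingleton] at hc
    obtain ⟨P⟩ : Nonempty (Sylow 5 G) := inferInstance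
    refine hnn P ⟨fun n hn g => ?_⟩
    rwa [Subsingleton.elim (g * n * g⁻¹) n]
  refine ⟨⟨fun M hM => or_iff_not_imp_left.2 fun hM1 => ?_⟩, fun hc => ?_⟩
  swap
  · obtain ⟨P⟩ : Nonempty (Sylow 5 G) := inferInstance
    refine hnn P ⟨fun n hn g => ?_⟩
    rwa [mul_comm' g n, mul_inv_cancel_right]
  by_contra hMtop
  -- `M` is transitive on the Sylow subgroups
  have htrans : ∀ P Q : Sylow 5 G, ∃ m ∈ M, m • P = Q := by
    intro P Q
    obtain ⟨g, rfl⟩ := MulAction.exists_smul_eq G P Q
    have hg : g ∈ (M : Set G) * ((P : Subgroup G) : Set G) := by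
      rw [← normal_mul, sup_comm, hsup M hM hM1 P]
      exact mem_top g
    obtain ⟨m, hm, q, hq, rfl⟩ := hg
    refine ⟨m, hm, ?_⟩
    rw [mul_smul, Sylow.smul_eq_iff_mem_normalizer.2 (le_normalizer hq)]
  have hidxM : ∀ P : Sylow 5 G, ((normalizer ((P : Subgroup G) : Set G)).subgroupOf M).index = 21 := by
    intro P
    have e : stabilizer M P = (normalizer ((P : Subgroup G) : Set G)).subgroupOf M := by
      ext m
      rw [mem_stabilizer_iff, mem_subgroupOf, Subgroup.smul_def]
      exact Sylow.smul_eq_iff_mem_normalizer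
    rw [← e, index_stabilizer, ← hn, ← Set.ncard_univ]
    congr 1
    refine Set.eq_univ_of_forall fun Q => ?_
    obtain ⟨m, hm, h⟩ := htrans P Q
    exact ⟨⟨m, hm⟩, h⟩
  -- `5` does not divide `|M|`
  have h5M : ¬ 5 ∣ Nat.card M := by
    intro h5
    obtain ⟨Q⟩ : Nonempty (Sylow 5 M) := inferInstance
    obtain ⟨P, hP⟩ := (Q.2.map M.subtype).exists_le_sylow
    have hQP : (P : Subgroup G).subgroupOf M = (Q : Subgroup M) :=
      Q.3 (P.2.comap_of_injective _ Subtype.val_injective) fun x hx => hP ⟨x, hx, rfl⟩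
    have hd : Nat.card (Sylow 5 M) ∣ 21 := by
      rw [hcard Q, ← hidxM P, ← hQP]
      exact index_dvd_of_le (le_normalizer_comap M.subtype)
    have hlt : Nat.card M < Nat.card G :=
      lt_of_le_of_ne (card_le_card_group M) fun e => hMtop (card_eq_iff_eq_top M |>.1 e)
    have key : ∀ d ∈ Nat.divisors 21, d % 5 = 1 → d = 1 ∨ d = 21 := by decide +kernel
    have h1 := (key _ (Nat.mem_divisors.2 ⟨hd, by norm_num⟩) (card_sylow_modEq_one 5 M)).resolve_right
      (IH M hlt)
    have hQn : (Q : Subgroup M).Normal := by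
      rw [← normalizer_eq_top_iff, ← index_eq_one, ← hcard Q, h1]
    haveI := Q.characteristic_of_normal hQn
    haveI : ((Q : Subgroup M).map M.subtype).Normal := ConjAct.normal_of_characteristic_of_normal
    have hbot : (Q : Subgroup M).map M.subtype = ⊥ := by
      refine (eq_bot_iff_forall _).2 fun x hx => hfaith x fun P' => ?_
      have h2 : (Q : Subgroup M).map M.subtype ⊔ (P' : Subgroup G) = (P' : Subgroup G) :=
        P'.3 ((Q.2.map _).to_sup_of_normal_left P'.2) le_sup_right
      exact Sylow.smul_eq_iff_mem_normalizer.2 (le_normalizer (h2 ▸ mem_sup_left hx))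
    rw [map_eq_bot_iff_of_injective _ Subtype.val_injective] at hbot
    exact Q.ne_bot_of_dvd_card h5 hbot
  -- a Sylow 7-subgroup of `M` normalised by a Sylow 5-subgroup
  obtain ⟨R⟩ : Nonempty (Sylow 7 M) := inferInstance
  set R' := (R : Subgroup M).map M.subtype with hR'
  set H := normalizer (R' : Set G) with hH
  have hHM : H ⊔ M = ⊤ := Sylow.normalizer_sup_eq_top R
  have hHidx : ¬ 5 ∣ H.index := by
    intro hd
    refine h5M (hd.trans ⟨Nat.card (H ⊓ M : Subgroup G), ?_⟩)
    have h1 : M.relIndex H = M.index := by rw [← relIndex_sup_right (H := H), hHM, relIndex_top_right]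
    have h2 := relIndex_mul_relIndex ⊥ (H ⊓ M) H bot_le inf_le_left
    rw [relIndex_bot_left, relIndex_bot_left, inf_relIndex_left, h1] at h2
    have h3 := card_mul_index H
    have h4 := card_mul_index M
    rw [← h4, ← h2] at h3
    refine Nat.eq_of_mul_eq_mul_right (Nat.pos_of_ne_zero M.index_ne_zero_of_finite) ?_
    rw [← h3]; ring
  obtain ⟨P0⟩ : Nonempty (Sylow 5 G) := inferInstance
  obtain ⟨c, hc⟩ := P0.2.nonempty_fixed_point_of_prime_not_dvd_card (G ⧸ H) (by rwa [← index])
  induction c using QuotientGroup.induction_on with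
  | H a =>
  set P := a⁻¹ • P0 with hP
  have hPH : (P : Subgroup G) ≤ H := by
    intro x hx
    rw [hP, Sylow.coe_subgroup_smul] at hx
    obtain ⟨y, hy, rfl⟩ := hx
    have h1 : ((y * a : G) : G ⧸ H) = (a : G ⧸ H) := hc ⟨y, hy⟩
    rw [eq_comm, QuotientGroup.eq] at h1
    show a⁻¹ * y * a⁻¹⁻¹ ∈ H
    rw [inv_inv, mul_assoc]
    exact h1
  -- the orbit of `P` under `R'`
  have h7M : 7 ∣ Nat.card M := (hidxM P ▸ (by norm_num : 7 ∣ 21)).trans (index_dvd_card _)
  set O := orbit R' P with hO
  have hOcard : ∃ k, Nat.card O = 7 ^ k := (R.2.map M.subtype).card_orbit P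
  obtain ⟨k, hk⟩ := hOcard
  have hle : Nat.card O ≤ 21 := hn ▸ Nat.card_le_card_of_injective _ Subtype.val_injective
  have hk1 : k = 1 := by
    rcases Nat.lt_or_ge k 1 with hk0 | hk0
    · exfalso
      obtain rfl : k = 0 := by omega
      rw [pow_zero] at hk
      haveI : Subsingleton O := (Nat.card_eq_one_iff_unique.1 hk).1
      have hRN : (R : Subgroup M) ≤ (normalizer ((P : Subgroup G) : Set G)).subgroupOf M := by
        intro m hm
        rw [mem_subgroupOf]
        refine Sylow.smul_eq_iff_mem_normalizer.1 ?_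
        exact congrArg Subtype.val (Subsingleton.elim
          (⟨(⟨(m : G), ⟨m, hm, rfl⟩⟩ : R') • P, mem_orbit _ _⟩ : O) ⟨P, mem_orbit_self P⟩)
      exact R.not_dvd_index ((hidxM P ▸ (by norm_num : 7 ∣ 21)).trans (index_dvd_of_le hRN))
    · by_contra hne
      have : 7 ^ 2 ≤ 7 ^ k := Nat.pow_le_pow_right (by norm_num) (by omega)
      omega
  rw [hk1, pow_one] at hk
  let act : MulAction (P : Subgroup G) O :=
    { smul := fun p z => ⟨(p : G) • (z : Sylow 5 G), by
        obtain ⟨r, hr⟩ := z.2
        have hr' : (p : G) * r * (p : G)⁻¹ ∈ R' := (mem_normalizer_iff.1 (hPH p.2) r).1 r.2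
        refine ⟨⟨_, hr'⟩, ?_⟩
        show ((p : G) * r * (p : G)⁻¹) • P = (p : G) • (z : Sylow 5 G)
        rw [← hr, mul_smul, mul_smul, Sylow.smul_eq_iff_mem_normalizer.2 (le_normalizer (inv_mem p.2))]
        rfl⟩
      one_smul := fun z => Subtype.ext (one_smul G _)
      mul_smul := fun p q z => Subtype.ext (mul_smul (p : G) (q : G) _) }
  have hmod := @IsPGroup.card_modEq_card_fixedPoints 5 (P : Subgroup G) _ P.2 _ O act _
  have hfix : @fixedPoints (P : Subgroup G) O _ act = {⟨P, mem_orbit_self P⟩} := by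
    refine Set.eq_singleton_iff_unique_mem.2 ⟨fun p => Subtype.ext ?_, fun z hz => Subtype.ext ?_⟩
    · exact Sylow.smul_eq_iff_mem_normalizer.2 (le_normalizer p.2)
    · have hle : (P : Subgroup G) ≤ normalizer (((z : Sylow 5 G) : Subgroup G) : Set G) := fun x hx =>
        Sylow.smul_eq_iff_mem_normalizer.1 (congrArg Subtype.val (hz ⟨x, hx⟩))
      have h2 : (P : Subgroup G) ⊔ ((z : Sylow 5 G) : Subgroup G) = ((z : Sylow 5 G) : Subgroup G) :=
        (z : Sylow 5 G).3 (IsPGroup.to_sup_of_normal_right' P.2 (z : Sylow 5 G).2 hle) le_sup_right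
      exact Sylow.ext (P.3 (z : Sylow 5 G).2 (le_sup_left.trans h2.le))
  rw [hfix, hk, Nat.card_coe_set_eq, Set.ncard_singleton] at hmod
  exact absurd hmod (by decide)

end Cfsg.Agent.SylowTwentyOne.Reduction
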