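import Mathlib
import Cfsg.Agent.Lib.SmallSimple.Basic
import Cfsg.Agent.Lib.SmallSimple.FixedPoints

/-!
# Sylow 5-subgroups of a simple group with 21 of them
-/

set_option linter.style.haveILetI false

namespace Cfsg.Agent.SylowTwentyOne

open Subgroup MulAction
open Cfsg.Agent.SmallSimple

variable {G : Type*} [Group G] [Finite G] [Fact (Nat.Prime 5)]

/-- A simple group with 21 Sylow 5-subgroups. -/
structure Hyp (G : Type*) [Group G] : Prop where
  simple : IsSimpleGroup G
  not_comm : ¬ IsMulCommutative G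
  card : Nat.card (Sylow 5 G) = 21

theorem Hyp.five_dvd (h : Hyp G) : 5 ∣ Nat.card G := by
  by_contra hc
  obtain ⟨P⟩ : Nonempty (Sylow 5 G) := inferInstance
  have hP : (P : Subgroup G) = ⊥ := by
    refine eq_bot_of_card_eq _ ?_
    rw [Basic.card_sylow_eq P, Nat.factorization_eq_zero_of_not_dvd hc, pow_zero]
  haveI : (P : Subgroup G).Normal := hP ▸ inferInstance
  haveI := Sylow.unique_of_normal P this
  have := h.card
  rw [Nat.card_unique] at this
  omega

theorem Hyp.faithful (h : Hyp G) : FaithfulSMul G (Sylow 5 G) :=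
  haveI := h.simple
  FixedPoints.faithful h.not_comm h.five_dvd

theorem Hyp.eq_one (h : Hyp G) {g : G} (hg : ∀ Q : Sylow 5 G, g • Q = Q) : g = 1 :=
  haveI := h.faithful
  eq_of_smul_eq_smul (α := Sylow 5 G) fun Q => by rw [hg, one_smul]

/-- A `5`-element normalising a Sylow subgroup lies in it. -/
theorem smul_eq_iff_mem {P : Sylow 5 G} {x : G} (hx : x ∈ (P : Subgroup G)) (Q : Sylow 5 G) :
    x • Q = Q ↔ x ∈ (Q : Subgroup G) := by
  refine ⟨fun hQ => ?_, fun hQ => Sylow.smul_eq_iff_mem_normalizer.2 (le_normalizer hQ)⟩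
  have hle : zpowers x ≤ normalizer ((Q : Subgroup G) : Set G) :=
    zpowers_le.2 (Sylow.smul_eq_iff_mem_normalizer.1 hQ)
  have h2 : zpowers x ⊔ (Q : Subgroup G) = (Q : Subgroup G) :=
    Q.3 (IsPGroup.to_sup_of_normal_right' (P.2.to_le (zpowers_le.2 hx)) Q.2 hle) le_sup_right
  exact h2 ▸ mem_sup_left (mem_zpowers x)

theorem stabilizer_eq (P Q : Sylow 5 G) :
    stabilizer (P : Subgroup G) Q = (Q : Subgroup G).subgroupOf (P : Subgroup G) := by
  ext x
  rw [mem_stabilizer_iff, mem_subgroupOf]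
  exact smul_eq_iff_mem x.2 Q

theorem eq_of_le {P Q : Sylow 5 G} (h : (P : Subgroup G) ≤ (Q : Subgroup G)) : Q = P :=
  Sylow.ext (P.3 Q.2 h)

/-- Each orbit of `P` on the other Sylow subgroups has five elements. -/
theorem Hyp.card_orbit (h : Hyp G) {P Q : Sylow 5 G} (hQ : Q ≠ P) :
    Nat.card (orbit (P : Subgroup G) Q) = 5 := by
  classical
  obtain ⟨k, hk⟩ := P.2.card_orbit Q
  have hk0 : k ≠ 0 := by
    rintro rfl
    rw [pow_zero] at hk
    haveI : Subsingleton (orbit (P : Subgroup G) Q) := (Nat.card_eq_one_iff_unique.1 hk).1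
    refine hQ (eq_of_le fun x hx => (smul_eq_iff_mem hx Q).1 ?_)
    exact congrArg Subtype.val (Subsingleton.elim
      (⟨(⟨x, hx⟩ : (P : Subgroup G)) • Q, mem_orbit _ _⟩ : orbit (P : Subgroup G) Q) ⟨Q, mem_orbit_self Q⟩)
  have hle : Nat.card (orbit (P : Subgroup G) Q) ≤ 20 := by
    have hinj : Function.Injective (fun z : orbit (P : Subgroup G) Q =>
        (⟨z.1, fun e => hQ (by
          obtain ⟨q, hq⟩ := z.2
          have hq' : (q : G) • Q = P := hq.trans e
          exact smul_left_cancel (q : G) (hq'.trans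
            (Sylow.smul_eq_iff_mem_normalizer.2 (le_normalizer q.2)).symm))⟩ : {R : Sylow 5 G // R ≠ P})) :=
      fun a b e => Subtype.ext (congrArg Subtype.val e :)
    refine (Nat.card_le_card_of_injective _ hinj).trans ?_
    haveI := Fintype.ofFinite (Sylow 5 G)
    rw [Nat.card_eq_fintype_card, Fintype.card_subtype_compl, Fintype.card_subtype_eq,
      ← Nat.card_eq_fintype_card, h.card]
  rw [hk] at hle ⊢
  have : k = 1 := by
    by_contra hne
    have : 5 ^ 2 ≤ 5 ^ k := Nat.pow_le_pow_right (by norm_num) (by omega)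
    omega
  rw [this, pow_one]

theorem Hyp.index_inter (h : Hyp G) {P Q : Sylow 5 G} (hQ : Q ≠ P) :
    ((Q : Subgroup G).subgroupOf (P : Subgroup G)).index = 5 := by
  rw [← stabilizer_eq, index_stabilizer]
  exact h.card_orbit hQ

/-- The Sylow subgroups are elementary abelian. -/
theorem Hyp.elementary (h : Hyp G) (P : Sylow 5 G) :
    (∀ a ∈ (P : Subgroup G), ∀ b ∈ (P : Subgroup G), a * b = b * a) ∧
      ∀ a ∈ (P : Subgroup G), a ^ 5 = 1 := by
  have key : ∀ Q : Sylow 5 G, Q ≠ P → ∀ a b : (P : Subgroup G),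
      ((a * b)⁻¹ * (b * a) : (P : Subgroup G)).1 ∈ (Q : Subgroup G) ∧
        (a ^ 5).1 ∈ (Q : Subgroup G) := by
    intro Q hQ a b
    set D := (Q : Subgroup G).subgroupOf (P : Subgroup G) with hD
    have hi : D.index = 5 := h.index_inter hQ
    obtain ⟨j, hj⟩ := IsPGroup.iff_card.1 P.2
    have hj0 : j ≠ 0 := by
      rintro rfl
      rw [pow_zero] at hj
      have := D.index_dvd_card
      rw [hi, hj] at this
      norm_num at this
    haveI : D.Normal := normal_of_index_eq_minFac_card (by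
      rw [hi, hj, Nat.pow_minFac hj0, (Fact.out : Nat.Prime 5).minFac_eq])
    haveI : IsCyclic ((P : Subgroup G) ⧸ D) := isCyclic_of_prime_card (p := 5) hi
    letI := IsCyclic.commGroup (α := (P : Subgroup G) ⧸ D)
    refine ⟨?_, ?_⟩
    · have : ((a * b : (P : Subgroup G)) : (P : Subgroup G) ⧸ D) = ((b * a : (P : Subgroup G))) := by
        rw [QuotientGroup.mk_mul, QuotientGroup.mk_mul, mul_comm]
      show (a * b)⁻¹ * (b * a) ∈ D
      exact QuotientGroup.eq.1 this
    · have := pow_index_mem D a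
      rw [hi] at this
      exact this
  refine ⟨fun a ha b hb => ?_, fun a ha => ?_⟩
  · have h1 : (a * b)⁻¹ * (b * a) = 1 := h.eq_one fun Q => by
      rcases eq_or_ne Q P with rfl | hQ
      · exact Sylow.smul_eq_iff_mem_normalizer.2 (le_normalizer
          (mul_mem (inv_mem (mul_mem ha hb)) (mul_mem hb ha)))
      · exact Sylow.smul_eq_iff_mem_normalizer.2 (le_normalizer (key Q hQ ⟨a, ha⟩ ⟨b, hb⟩).1)
    exact inv_mul_eq_one.1 h1
  · refine h.eq_one fun Q => ?_
    rcases eq_or_ne Q P with rfl | hQ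
    · exact Sylow.smul_eq_iff_mem_normalizer.2 (le_normalizer (pow_mem ha 5))
    · exact Sylow.smul_eq_iff_mem_normalizer.2 (le_normalizer (key Q hQ ⟨a, ha⟩ ⟨a, ha⟩).2)

theorem Hyp.mem_orbit_of_mem (h : Hyp G) {P Q R : Sylow 5 G} {x : G} (hx : x ∈ (P : Subgroup G))
    (hQ : x ∈ (Q : Subgroup G)) (hR : R ∈ orbit (P : Subgroup G) Q) : x ∈ (R : Subgroup G) := by
  obtain ⟨q, rfl⟩ := hR
  refine (smul_eq_iff_mem hx _).1 ?_
  show x • (q : G) • Q = (q : G) • Q
  rw [← mul_smul, (h.elementary P).1 x hx q q.2, mul_smul, (smul_eq_iff_mem hx Q).2 hQ]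

theorem Hyp.orbit_not_mem (h : Hyp G) {P Q R : Sylow 5 G} {x : G} (hx : x ∈ (P : Subgroup G))
    (hQ : x ∉ (Q : Subgroup G)) (hR : R ∈ orbit (P : Subgroup G) Q) : x ∉ (R : Subgroup G) :=
  fun hxR => hQ (h.mem_orbit_of_mem hx hxR (mem_orbit_symm.1 hR))

/-- The Sylow subgroups containing `x` are permuted transitively by `C(x)`. -/
theorem Hyp.fix_eq_orbit (h : Hyp G) {P : Sylow 5 G} {x : G} (hx : x ∈ (P : Subgroup G))
    (Q : Sylow 5 G) :
    x ∈ (Q : Subgroup G) ↔ Q ∈ orbit (centralizer ({x} : Set G)) P := by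
  constructor
  · intro hQ
    set H := centralizer ({x} : Set G) with hH
    have hle : ∀ R : Sylow 5 G, x ∈ (R : Subgroup G) → (R : Subgroup G) ≤ H := fun R hR z hz =>
      mem_centralizer_singleton_iff.2 ((h.elementary R).1 z hz x hR)
    obtain ⟨c, hc⟩ := MulAction.exists_smul_eq H (P.subtype (hle P hx)) (Q.subtype (hle Q hQ))
    rw [Sylow.smul_subtype] at hc
    exact ⟨c, Sylow.subtype_injective hc⟩
  · rintro ⟨c, rfl⟩
    show x ∈ ((c : G) • P : Sylow 5 G).1
    rw [Sylow.coe_subgroup_smul]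
    refine ⟨x, hx, ?_⟩
    show (c : G) * x * (c : G)⁻¹ = x
    rw [mem_centralizer_singleton_iff.1 c.2, mul_inv_cancel_right]

theorem Hyp.card_fix (h : Hyp G) {P : Sylow 5 G} {x : G} (hx : x ∈ (P : Subgroup G)) :
    Nat.card {Q : Sylow 5 G // x ∈ (Q : Subgroup G)} =
      (normalizer ((P : Subgroup G) : Set G)).relIndex (centralizer ({x} : Set G)) := by
  rw [Nat.card_congr (Equiv.subtypeEquivRight fun Q => h.fix_eq_orbit hx Q), relIndex]
  have e : stabilizer (centralizer ({x} : Set G)) P =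
      (normalizer ((P : Subgroup G) : Set G)).subgroupOf (centralizer ({x} : Set G)) := by
    ext m
    rw [mem_stabilizer_iff, mem_subgroupOf]
    exact Sylow.smul_eq_iff_mem_normalizer
  rw [← e, index_stabilizer]
  rfl

/-- No prime above `5` divides `|N(P)|`. -/
theorem Hyp.prime_not_dvd_normalizer (h : Hyp G) (P : Sylow 5 G) {q : ℕ} (hq : q.Prime) (hq7 : 5 < q) :
    ¬ q ∣ Nat.card (normalizer ((P : Subgroup G) : Set G)) := by
  classical
  intro hd
  haveI : Fact q.Prime := ⟨hq⟩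
  obtain ⟨⟨z, hz⟩, hzo⟩ := exists_prime_orderOf_dvd_card' (G := normalizer ((P : Subgroup G) : Set G)) q hd
  rw [orderOf_mk] at hzo
  have hzP : z • P = P := Sylow.smul_eq_iff_mem_normalizer.2 hz
  suffices hall : ∀ Q : Sylow 5 G, z • Q = Q by
    rw [h.eq_one hall, orderOf_one] at hzo
    omega
  intro Q
  rcases eq_or_ne Q P with rfl | hQ
  · exact hzP
  by_contra hzQ
  set B := orbit (P : Subgroup G) Q with hB
  have hmap : ∀ (w : G), w ∈ normalizer ((P : Subgroup G) : Set G) → ∀ A ∈ B, w • A ∈ B →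
      ∀ R ∈ B, w • R ∈ B := by
    intro w hw A hA hwA R hR
    have hR' : R ∈ orbit (P : Subgroup G) A := by rwa [orbit_eq_iff.2 hA]
    obtain ⟨p, rfl⟩ := hR'
    rw [hB, ← orbit_eq_iff.2 hwA]
    refine ⟨⟨w * p * w⁻¹, (mem_normalizer_iff.1 hw p).1 p.2⟩, ?_⟩
    show (w * p * w⁻¹) • w • A = w • (p : G) • A
    rw [← mul_smul, ← mul_smul, inv_mul_cancel_right]
  have hin : ∀ j : ℕ, ¬ q ∣ j → ∀ A ∈ B, z ^ j • A ∉ B := by
    intro j hj A hA hjA
    obtain ⟨m, hm⟩ : ∃ m, (z ^ j) ^ m = z := by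
      obtain ⟨m, -, hm⟩ := Nat.exists_mul_mod_eq_one_of_coprime
        ((hq.coprime_iff_not_dvd.2 hj).symm) hq.one_lt
      refine ⟨m, ?_⟩
      rw [← pow_mul, ← pow_mod_orderOf, hzo, hm, pow_one]
    have hall : ∀ n, ∀ R ∈ B, (z ^ j) ^ n • R ∈ B := by
      intro n
      induction n with
      | zero => intro R hR; simpa using hR
      | succ n ih =>
        intro R hR
        rw [pow_succ', mul_smul]
        exact hmap _ (pow_mem hz j) A hA hjA _ (ih R hR)
    have hzB : ∀ R ∈ B, z • R ∈ B := fun R hR => hm ▸ hall m R hR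
    have hpow : ∀ n, z ^ n • Q ∈ B := by
      intro n
      induction n with
      | zero => simp [hB, mem_orbit_self]
      | succ n ih => rw [pow_succ', mul_smul]; exact hzB _ ih
    have hinj : Function.Injective fun i : Fin q => (⟨z ^ (i : ℕ) • Q, hpow i⟩ : B) := by
      intro a b hab
      by_contra hne
      have hab' : z ^ (a : ℕ) • Q = z ^ (b : ℕ) • Q := congrArg Subtype.val hab
      have hmem : (z ^ (a : ℕ))⁻¹ * z ^ (b : ℕ) ∈ stabilizer G Q := by
        rw [mem_stabilizer_iff, mul_smul, ← hab', inv_smul_smul]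
      have hz' : ((z ^ ((b : ℤ) - a)) : G) ∈ stabilizer G Q := by
        rw [zpow_sub, zpow_natCast, zpow_natCast, (Commute.pow_pow_self z _ _).inv_right.eq]
        exact hmem
      have hcop : Int.gcd ((b : ℤ) - a) q = 1 := by
        rw [Int.gcd, Int.natAbs_natCast]
        refine (hq.coprime_iff_not_dvd.2 fun hd => ?_).symm
        have hlt : ((b : ℤ) - a).natAbs < q := by omega
        have := Nat.eq_zero_of_dvd_of_lt hd hlt
        exact hne (Fin.ext (by omega))
      refine hzQ (mem_stabilizer_iff.1 ?_)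
      have hbez := Int.gcd_eq_gcd_ab ((b : ℤ) - a) q
      rw [hcop] at hbez
      have hzq : z ^ (q : ℤ) = 1 := by rw [zpow_natCast, ← hzo, pow_orderOf_eq_one]
      have : z = (z ^ ((b : ℤ) - a)) ^ (Int.gcdA ((b : ℤ) - a) q) := by
        conv_lhs => rw [← zpow_one z, show (1 : ℤ) = ((1 : ℕ) : ℤ) from rfl, hbez, zpow_add, zpow_mul,
          zpow_mul z (q : ℤ), hzq, one_zpow, mul_one]
      rw [this]
      exact zpow_mem hz' _
    have := Nat.card_le_card_of_injective _ hinj
    rw [Nat.card_fin, h.card_orbit hQ] at this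
    omega
  have hinj : Function.Injective (fun s : Fin q × B => z ^ (s.1 : ℕ) • (s.2 : Sylow 5 G)) := by
    rintro ⟨i, A⟩ ⟨j, C⟩ e
    change z ^ (i : ℕ) • (A : Sylow 5 G) = z ^ (j : ℕ) • (C : Sylow 5 G) at e
    wlog hij : (i : ℕ) ≤ j generalizing i j A C
    · exact (this j C i A e.symm (le_of_not_ge hij)).symm
    have hdiff : z ^ ((j : ℕ) - i) • (C : Sylow 5 G) = A := by
      refine smul_left_cancel (z ^ (i : ℕ)) ?_
      rw [← mul_smul, ← pow_add, Nat.add_sub_cancel' hij, e]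
    have hij' : i = j := by
      by_contra hne
      have hne' : (i : ℕ) ≠ j := fun e => hne (Fin.ext e)
      refine hin ((j : ℕ) - i) (fun hd => ?_) _ C.2 (by rw [hdiff]; exact A.2)
      have := Nat.eq_zero_of_dvd_of_lt hd (by omega)
      omega
    subst hij'
    exact Prod.ext rfl (Subtype.ext (smul_left_cancel _ e))
  have := Nat.card_le_card_of_injective _ hinj
  rw [Nat.card_prod, Nat.card_fin, h.card_orbit hQ, h.card] at this
  omega

/-- Every non-trivial element of a Sylow subgroup lies in one or six of them. -/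
theorem Hyp.card_fix_cases (h : Hyp G) {P : Sylow 5 G} {x : G} (hx : x ∈ (P : Subgroup G))
    (hx1 : x ≠ 1) :
    Nat.card {Q : Sylow 5 G // x ∈ (Q : Subgroup G)} = 1 ∨
      Nat.card {Q : Sylow 5 G // x ∈ (Q : Subgroup G)} = 6 := by
  classical
  set N := normalizer ((P : Subgroup G) : Set G) with hN
  have hGN : Nat.card N * 21 = Nat.card G := h.card ▸ Basic.card_normalizer_mul P
  have hcases : ∀ {y : G}, y ∈ (P : Subgroup G) → y ≠ 1 →
      Nat.card {Q : Sylow 5 G // y ∈ (Q : Subgroup G)} ∈ [1, 6, 16] := by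
    intro y hy hy1
    have hPy : (P : Subgroup G) ≤ centralizer ({y} : Set G) := fun z hz =>
      mem_centralizer_singleton_iff.2 ((h.elementary P).1 z hz y hy)
    have hmod : Nat.card {Q : Sylow 5 G // y ∈ (Q : Subgroup G)} % 5 = 1 := by
      rw [h.card_fix hy]; exact FixedPoints.relIndex_normalizer_mod P hPy
    have hlt : Nat.card {Q : Sylow 5 G // y ∈ (Q : Subgroup G)} < 21 := by
      rw [← h.card]
      refine lt_of_le_of_ne (Nat.card_le_card_of_injective _ Subtype.val_injective) fun e => hy1 ?_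
      refine h.eq_one fun Q => ?_
      obtain ⟨Q', hQ'⟩ := ((Nat.bijective_iff_injective_and_card (Subtype.val :
        {Q : Sylow 5 G // y ∈ (Q : Subgroup G)} → Sylow 5 G)).2 ⟨Subtype.val_injective, e⟩).2 Q
      exact (smul_eq_iff_mem hy Q).2 (hQ' ▸ Q'.2)
    have hd : Nat.card {Q : Sylow 5 G // y ∈ (Q : Subgroup G)} ∣ Nat.card N * 21 := by
      rw [h.card_fix hy, hGN]
      exact (index_dvd_card _).trans (card_subgroup_dvd_card _)
    generalize Nat.card {Q : Sylow 5 G // y ∈ (Q : Subgroup G)} = r at hmod hlt hd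
    have hr11 : r ≠ 11 := by
      rintro rfl
      exact h.prime_not_dvd_normalizer P (q := 11) (by norm_num) (by norm_num)
        ((show Nat.Coprime 11 21 by norm_num).dvd_of_dvd_mul_right hd)
    interval_cases r <;> simp_all
  have hc := hcases hx hx1
  simp only [List.mem_cons, List.not_mem_nil, or_false] at hc
  rcases hc with hc | hc | hc
  · exact Or.inl hc
  · exact Or.inr hc
  exfalso
  obtain ⟨Q0, hQ0⟩ : ∃ Q : Sylow 5 G, x ∉ (Q : Subgroup G) := by
    by_contra hall
    push Not at hall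
    exact hx1 (h.eq_one fun Q => (smul_eq_iff_mem hx Q).2 (hall Q))
  haveI := Fintype.ofFinite (Sylow 5 G)
  -- the moved set of an element fixing sixteen is one orbit
  have hcompl : ∀ {y : G} (hy : y ∈ (P : Subgroup G)),
      Nat.card {Q : Sylow 5 G // y ∈ (Q : Subgroup G)} = 16 → ∀ A : Sylow 5 G, y ∉ (A : Subgroup G) →
      ∀ Q : Sylow 5 G, y ∉ (Q : Subgroup G) ↔ Q ∈ orbit (P : Subgroup G) A := by
    intro y hy h16 A hA Q
    refine ⟨fun hQ => ?_, fun hQ => h.orbit_not_mem hy hA hQ⟩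
    have hAP : A ≠ P := fun e => hA (e ▸ hy)
    let F : orbit (P : Subgroup G) A → {R : Sylow 5 G // ¬ y ∈ (R : Subgroup G)} := fun R =>
      ⟨R.1, h.orbit_not_mem hy hA R.2⟩
    have hF : Function.Bijective F := by
      refine (show Function.Injective F from fun a b e => Subtype.ext (congrArg Subtype.val e :)).bijective_of_nat_card_le ?_
      rw [h.card_orbit hAP, Nat.card_eq_fintype_card, Fintype.card_subtype_compl,
        ← Nat.card_eq_fintype_card, ← Nat.card_eq_fintype_card, h16, h.card]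
    obtain ⟨R, hR⟩ := hF.2 ⟨Q, hQ⟩
    have e : (R : Sylow 5 G) = Q := congrArg Subtype.val hR
    exact e ▸ R.2
  -- the conjugates of `x` under `N` fix sixteen, with the same moved set
  have hconj : ∀ n ∈ N, n * x * n⁻¹ ∈ (P : Subgroup G) ∧ n * x * n⁻¹ ≠ 1 ∧
      Nat.card {Q : Sylow 5 G // n * x * n⁻¹ ∈ (Q : Subgroup G)} = 16 := by
    intro n hn
    refine ⟨(mem_normalizer_iff.1 hn x).1 hx, fun e => hx1 (conj_eq_one_iff.1 e), ?_⟩
    rw [← hc]
    refine (Nat.card_congr ((MulAction.toPerm n).subtypeEquiv fun Q => ?_)).symm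
    show x ∈ (Q : Subgroup G) ↔ n * x * n⁻¹ ∈ ((n • Q : Sylow 5 G) : Subgroup G)
    rw [Sylow.coe_subgroup_smul]
    exact ⟨fun hx' => ⟨x, hx', rfl⟩, fun ⟨w, hw, hwx⟩ =>
      (mul_left_cancel (mul_right_cancel hwx) : w = x) ▸ hw⟩
  have hsame : ∀ n ∈ N, ∀ Q : Sylow 5 G,
      n * x * n⁻¹ ∉ (Q : Subgroup G) ↔ x ∉ (Q : Subgroup G) := by
    intro n hn
    obtain ⟨hy, hy1, hy16⟩ := hconj n hn
    set y := n * x * n⁻¹
    obtain ⟨Q2, hQ2⟩ : ∃ Q : Sylow 5 G, y ∉ (Q : Subgroup G) := by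
      by_contra hall
      push Not at hall
      exact hy1 (h.eq_one fun Q => (smul_eq_iff_mem hy Q).2 (hall Q))
    by_cases hmem : Q2 ∈ orbit (P : Subgroup G) Q0
    · intro Q
      rw [hcompl hy hy16 Q2 hQ2, hcompl hx hc Q0 hQ0, orbit_eq_iff.2 hmem]
    exfalso
    have hdisj : ∀ Q, ¬ (Q ∈ orbit (P : Subgroup G) Q0 ∧ Q ∈ orbit (P : Subgroup G) Q2) := by
      rintro Q ⟨h1, h2⟩
      exact hmem (orbit_eq_iff.1 ((orbit_eq_iff.2 h2).symm.trans (orbit_eq_iff.2 h1)))
    have hz : ∀ Q : Sylow 5 G, ¬ x * y ∈ (Q : Subgroup G) ↔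
        (Q ∈ orbit (P : Subgroup G) Q0 ∨ Q ∈ orbit (P : Subgroup G) Q2) := by
      intro Q
      constructor
      · intro hQ
        by_contra hcon
        push Not at hcon
        exact hQ (mul_mem (by by_contra h'; exact hcon.1 ((hcompl hx hc Q0 hQ0 Q).1 h'))
          (by by_contra h'; exact hcon.2 ((hcompl hy hy16 Q2 hQ2 Q).1 h')))
      · rintro (hQ | hQ) hxy
        · have hyQ : y ∈ (Q : Subgroup G) := by
            by_contra h'
            exact hdisj Q ⟨hQ, (hcompl hy hy16 Q2 hQ2 Q).1 h'⟩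
          exact (hcompl hx hc Q0 hQ0 Q).2 hQ ((mul_mem_cancel_right hyQ).1 hxy)
        · have hxQ : x ∈ (Q : Subgroup G) := by
            by_contra h'
            exact hdisj Q ⟨(hcompl hx hc Q0 hQ0 Q).1 h', hQ⟩
          exact (hcompl hy hy16 Q2 hQ2 Q).2 hQ ((mul_mem_cancel_left hxQ).1 hxy)
    have hz1 : x * y ≠ 1 := fun e => (hz Q0).2 (Or.inl (mem_orbit_self Q0)) (by rw [e]; exact one_mem _)
    have hcard : Nat.card {Q : Sylow 5 G // x * y ∈ (Q : Subgroup G)} = 11 := by
      have h10 : Nat.card {Q : Sylow 5 G // ¬ x * y ∈ (Q : Subgroup G)} = 10 := by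
        rw [Nat.card_congr (Equiv.subtypeEquivRight hz), Nat.card_eq_fintype_card,
          Fintype.card_subtype_or_disjoint _ _ (by
            rw [disjoint_iff_inf_le]; rintro Q ⟨h1, h2⟩; exact hdisj Q ⟨h1, h2⟩),
          ← Nat.card_eq_fintype_card, ← Nat.card_eq_fintype_card]
        show Nat.card (orbit (P : Subgroup G) Q0) + Nat.card (orbit (P : Subgroup G) Q2) = 10
        rw [h.card_orbit (fun (e : Q0 = P) => hQ0 (e.symm ▸ hx)), h.card_orbit (fun (e : Q2 = P) => hQ2 (e.symm ▸ hy))]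
      rw [Nat.card_eq_fintype_card, Fintype.card_subtype_compl, ← Nat.card_eq_fintype_card,
        ← Nat.card_eq_fintype_card, h.card] at h10
      omega
    have := hcases (mul_mem hx hy) hz1
    rw [hcard] at this
    norm_num at this
  -- at most four conjugates
  letI act : MulAction N G := MulAction.compHom G (ConjAct.toConjAct.toMonoidHom.comp N.subtype)
  have hsmul : ∀ (n : N) (g : G), n • g = (n : G) * g * (n : G)⁻¹ := fun n g =>
    ConjAct.toConjAct_smul _ _
  have hstab : stabilizer N x = (centralizer ({x} : Set G)).subgroupOf N := by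
    ext n
    rw [mem_stabilizer_iff, mem_subgroupOf, mem_centralizer_singleton_iff, hsmul]
    exact mul_inv_eq_iff_eq_mul
  have hT4 : Nat.card (orbit N x) ≤ 5 := by
    rw [← h.card_orbit (show Q0 ≠ P from fun e => hQ0 (e ▸ hx))]
    have hmemN : ∀ y : orbit N x, ∃ n ∈ N, n * x * n⁻¹ = (y : G) := fun y => by
      obtain ⟨n, hn⟩ := y.2
      exact ⟨n, n.2, (hsmul n x).symm.trans hn⟩
    have hyP : ∀ y : orbit N x, (y : G) ∈ (P : Subgroup G) := fun y => by
      obtain ⟨n, hn, e⟩ := hmemN y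
      exact e ▸ (hconj n hn).1
    refine Nat.card_le_card_of_injective
      (fun y : orbit N x => (⟨(⟨(y : G), hyP y⟩ : (P : Subgroup G)) • Q0, mem_orbit _ _⟩ :
        orbit (P : Subgroup G) Q0)) fun a b hab => ?_
    have hab' : (a : G) • Q0 = (b : G) • Q0 := congrArg Subtype.val hab
    refine Subtype.ext (inv_mul_eq_one.1 (h.eq_one fun Q => ?_))
    obtain ⟨n, hn, ea⟩ := hmemN a
    obtain ⟨m, hm, eb⟩ := hmemN b
    have hab2 : (a : G)⁻¹ * b ∈ (P : Subgroup G) := mul_mem (inv_mem (hyP a)) (hyP b)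
    refine (smul_eq_iff_mem hab2 Q).2 ?_
    by_cases hQ : x ∈ (Q : Subgroup G)
    · have h1 : (a : G) ∈ (Q : Subgroup G) := by
        rw [← ea]; by_contra h'; exact (hsame n hn Q).1 h' hQ
      have h2 : (b : G) ∈ (Q : Subgroup G) := by
        rw [← eb]; by_contra h'; exact (hsame m hm Q).1 h' hQ
      exact mul_mem (inv_mem h1) h2
    · refine h.mem_orbit_of_mem hab2 ((smul_eq_iff_mem hab2 Q0).1 ?_) ((hcompl hx hc Q0 hQ0 Q).1 hQ)
      rw [mul_smul, ← hab', inv_smul_smul]
  have hT16 : 16 ∣ Nat.card (orbit N x) := by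
    have h1 : Nat.card (orbit N x) * Nat.card (centralizer ({x} : Set G) ⊓ N : Subgroup G) = Nat.card N := by
      rw [Nat.card_coe_set_eq, ← index_stabilizer, hstab, ← relIndex, ← inf_relIndex_right]
      have := relIndex_mul_relIndex ⊥ (centralizer ({x} : Set G) ⊓ N) N bot_le inf_le_right
      rw [relIndex_bot_left, relIndex_bot_left] at this
      linarith
    have h2 : Nat.card (centralizer ({x} : Set G) ⊓ N : Subgroup G) * 16 =
        Nat.card (centralizer ({x} : Set G)) := by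
      rw [← hc, h.card_fix hx, ← inf_relIndex_left]
      have := relIndex_mul_relIndex ⊥ (centralizer ({x} : Set G) ⊓ N) (centralizer ({x} : Set G))
        bot_le inf_le_left
      rwa [relIndex_bot_left, relIndex_bot_left] at this
    have h3 : Nat.card (centralizer ({x} : Set G)) ∣ Nat.card N * 21 := hGN ▸ card_subgroup_dvd_card _
    rw [← h1, ← h2, mul_comm (Nat.card (orbit N x)), mul_assoc] at h3
    exact (show Nat.Coprime 16 21 by norm_num).dvd_of_dvd_mul_right
      ((Nat.mul_dvd_mul_iff_left Nat.card_pos).1 h3)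
  haveI : Nonempty (orbit N x) := ⟨⟨x, mem_orbit_self x⟩⟩
  have := Nat.le_of_dvd Nat.card_pos hT16
  omega

/-- A Sylow subgroup has order `5` or `25`. -/
theorem Hyp.card_sylow_cases (h : Hyp G) (P : Sylow 5 G) :
    Nat.card (P : Subgroup G) = 5 ∨ Nat.card (P : Subgroup G) = 25 := by
  classical
  obtain ⟨k, hk⟩ := IsPGroup.iff_card.1 P.2
  have hk1 : 1 ≤ k := by
    by_contra hlt
    obtain rfl : k = 0 := by omega
    haveI := h.simple
    exact Basic.sylow_ne_bot h.five_dvd P (eq_bot_of_card_eq _ (by rw [hk, pow_zero]))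
  suffices k ≤ 2 by interval_cases k <;> norm_num at hk <;> tauto
  by_contra hlt
  have h125 : 125 ≤ Nat.card (P : Subgroup G) := by
    rw [hk]; exact le_trans (by norm_num) (Nat.pow_le_pow_right (by norm_num) (show 3 ≤ k by omega))
  haveI := Fintype.ofFinite (Sylow 5 G)
  obtain ⟨Q1, hQ1⟩ : ∃ Q : Sylow 5 G, Q ≠ P := by
    haveI : Nontrivial (Sylow 5 G) := Finite.one_lt_card_iff_nontrivial.1 (by rw [h.card]; norm_num)
    exact exists_ne P
  obtain ⟨Q2, hQ2P, hQ2⟩ : ∃ Q : Sylow 5 G, Q ≠ P ∧ Q ∉ orbit (P : Subgroup G) Q1 := by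
    by_contra hc
    push Not at hc
    have hinj : Function.Injective (fun Q : {Q : Sylow 5 G // Q ≠ P} =>
        (⟨Q.1, hc Q.1 Q.2⟩ : orbit (P : Subgroup G) Q1)) := fun a b e => Subtype.ext (congrArg Subtype.val e :)
    have := Nat.card_le_card_of_injective _ hinj
    rw [h.card_orbit hQ1, Nat.card_eq_fintype_card, Fintype.card_subtype_compl, Fintype.card_subtype_eq,
      ← Nat.card_eq_fintype_card, h.card] at this
    omega
  set K1 := (Q1 : Subgroup G).subgroupOf (P : Subgroup G) with hK1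
  have hK1c : 25 ≤ Nat.card K1 := by
    have := card_mul_index K1
    rw [h.index_inter hQ1] at this
    omega
  obtain ⟨a, b, hne, hab⟩ : ∃ a b : K1, a ≠ b ∧ ((a : (P : Subgroup G)) : G) • Q2 = ((b : (P : Subgroup G)) : G) • Q2 := by
    by_contra hc
    push Not at hc
    have hinj : Function.Injective (fun a : K1 =>
        (⟨(a : (P : Subgroup G)) • Q2, mem_orbit _ _⟩ : orbit (P : Subgroup G) Q2)) := fun a b e => by
      by_contra hne
      exact hc a b hne (congrArg Subtype.val e)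
    have := Nat.card_le_card_of_injective _ hinj
    rw [h.card_orbit hQ2P] at this
    omega
  set x : G := (((a⁻¹ * b : K1) : (P : Subgroup G)) : G) with hxdef
  have hx1 : x ≠ 1 := fun e => hne (inv_mul_eq_one.1 (Subtype.ext (Subtype.ext e)))
  have hxP : x ∈ (P : Subgroup G) := ((a⁻¹ * b : K1) : (P : Subgroup G)).2
  have hxQ1 : x ∈ (Q1 : Subgroup G) := (a⁻¹ * b : K1).2
  have hxQ2 : x ∈ (Q2 : Subgroup G) := by
    refine (smul_eq_iff_mem hxP Q2).1 ?_
    show (((a : (P : Subgroup G)) : G)⁻¹ * ((b : (P : Subgroup G)) : G)) • Q2 = Q2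
    rw [mul_smul, ← hab, inv_smul_smul]
  have h11 : 11 ≤ Nat.card {Q : Sylow 5 G // x ∈ (Q : Subgroup G)} := by
    let f : Unit ⊕ orbit (P : Subgroup G) Q1 ⊕ orbit (P : Subgroup G) Q2 →
        {Q : Sylow 5 G // x ∈ (Q : Subgroup G)} :=
      Sum.elim (fun _ => ⟨P, hxP⟩) (Sum.elim (fun R => ⟨R.1, h.mem_orbit_of_mem hxP hxQ1 R.2⟩)
        (fun R => ⟨R.1, h.mem_orbit_of_mem hxP hxQ2 R.2⟩))
    have hf : Function.Injective f := by
      have hP1 : ∀ {A R : Sylow 5 G}, A ≠ P → R ∈ orbit (P : Subgroup G) A → R ≠ P := fun hA hP hRP => by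
        rw [hRP] at hP
        obtain ⟨q, hq⟩ := mem_orbit_symm.1 hP
        exact hA (hq.symm.trans (Sylow.smul_eq_iff_mem_normalizer.2 (le_normalizer q.2)))
      rintro (u | R | R) (u' | R' | R') e <;> have e' := congrArg Subtype.val e <;>
        simp only [f, Sum.elim_inl, Sum.elim_inr] at e'
      · rfl
      · exact absurd e'.symm (hP1 hQ1 R'.2)
      · exact absurd e'.symm (hP1 hQ2P R'.2)
      · exact absurd e' (hP1 hQ1 R.2)
      · rw [Subtype.ext e']
      · exact absurd (orbit_eq_iff.1 ((orbit_eq_iff.2 R'.2).symm.trans (e' ▸ orbit_eq_iff.2 R.2))) hQ2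
      · exact absurd e' (hP1 hQ2P R.2)
      · exact absurd (orbit_eq_iff.1 ((orbit_eq_iff.2 R.2).symm.trans (e'.symm ▸ orbit_eq_iff.2 R'.2))) hQ2
      · rw [Subtype.ext e']
    have := Nat.card_le_card_of_injective f hf
    rw [Nat.card_sum, Nat.card_sum, h.card_orbit hQ1, h.card_orbit hQ2P, Nat.card_unique] at this
    omega
  rcases h.card_fix_cases hxP hx1 with e | e <;> omega

end Cfsg.Agent.SylowTwentyOne
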